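import Cfsg.Agent.H406.Cov.F4
import Cfsg.Agent.H563.KG.CycFix
import Cfsg.Agent.OrdDiv.Table
import Cfsg.Agent.S0000

/-!
# `F₄(q)`, `p ≥ 5`, is not the union of the conjugates of two proper subgroups, without hypotheses (helper406)
-/

set_option autoImplicit false

namespace Cfsg.Agent.H406.Cov

open Cfsg.Agent.H436 Cfsg.Agent.H563.KG Cfsg.Agent.H278.Cov

/-- **`F₄(q)`, characteristic at least 5.** -/
theorem noTwo_f4' {q : ℕ} {T : Type*} [Group T] (h : IsNamed (.f4 q) T) {p f : ℕ} (hp : p.Prime) (h5 : 5 ≤ p)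
    (hq : q = p ^ f) : NoTwo T :=
  noTwo_f4 Cfsg.Agent.OrdDiv.table cycFixSolv (fun _ _ _ _ => Cfsg.Agent.S0000.result) h hp h5 hq

end Cfsg.Agent.H406.Cov
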