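import Cfsg.Agent.H406.Cov.Top
import Cfsg.Agent.H278.Cov.Defs

/-!
# `F₄(q)`, `p ≥ 5`, is not the union of the conjugates of two proper subgroups: assembly (helper406)

Witnesses: generators of the tori of orders `q⁴ - q² + 1` and `q⁴ + 1`, and a regular unipotent element.
-/

set_option autoImplicit false

namespace Cfsg.Agent.H406.Cov

open Cfsg Cfsg.Agent.OrdDiv Cfsg.Agent.H436 Cfsg.Agent.H902 Cfsg.Agent.H902.Names Cfsg.Agent.H915.GN
  Cfsg.Agent.H290.ElReg Cfsg.Agent.H264.GN Cfsg.Agent.H264.FKS Cfsg.Agent.H56.Exc Cfsg.Agent.H325.Loc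
open Cfsg.Agent.H563.KG hiding mod_of_prim
open Cfsg.Agent.ChevalleyStructure.Elts Cfsg.Agent.ChevalleyStructure.RootVec
  Cfsg.Agent.ChevalleyStructure.RootVecTab Cfsg.Agent.H610.ChevRegular Cfsg.Agent.H610.OddRegLie Cfsg.Lie
open Cfsg.Agent.H278.Cov

/-- the index of a subgroup containing a full cyclic torus -/
theorem off_one {G : Type*} [Group G] [Finite G] {r m e : ℕ} (hb : Big G r m e) {x : G} (hx : orderOf x = m)
    (hrm : r ∣ m) {B : Subgroup G} (hxB : x ∈ B) : ¬ r ∣ B.index := by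
  have hr := hb.prime
  have := Fact.mk hr
  have hm0 : 0 < m := hx ▸ orderOf_pos x
  have hy : orderOf (x ^ (m / r)) = r := by
    rw [orderOf_pow_of_dvd (Nat.div_pos (Nat.le_of_dvd hm0 hrm) hr.pos).ne' (by rw [hx]; exact Nat.div_dvd_of_dvd hrm),
      hx, Nat.div_div_self hrm hm0.ne']
  set y := x ^ (m / r) with hyd
  have hle : Subgroup.zpowers x ≤ Subgroup.centralizer {y} := by
    rw [Subgroup.zpowers_le, Subgroup.mem_centralizer_singleton_iff]
    exact (Commute.pow_right (Commute.refl x) _).eq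
  have hC : Subgroup.zpowers x = Subgroup.centralizer {y} := by
    apply Subgroup.eq_of_le_of_card_ge hle
    rw [Nat.card_zpowers, hx]
    exact Nat.le_of_dvd hm0 (hb.card y hy)
  have hyp : IsPGroup r (Subgroup.zpowers y) := IsPGroup.of_card (n := 1) (by rw [Nat.card_zpowers, hy, pow_one])
  obtain ⟨P, hP⟩ := hyp.exists_le_sylow
  have hPc := hb.isCyclic_sylow P
  have hPB : (P : Subgroup G) ≤ B := by
    intro a ha
    have h1 : a ∈ Subgroup.centralizer {y} := by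
      rw [Subgroup.mem_centralizer_singleton_iff]
      let _ := IsCyclic.commGroup (α := ↥(P : Subgroup G))
      have h1 : (⟨a, ha⟩ : ↥(P : Subgroup G)) * ⟨y, hP (Subgroup.mem_zpowers y)⟩ =
        ⟨y, hP (Subgroup.mem_zpowers y)⟩ * ⟨a, ha⟩ := mul_comm _ _
      exact congrArg Subtype.val h1
    rw [← hC] at h1
    exact (Subgroup.zpowers_le.2 hxB) h1
  intro h
  exact P.not_dvd_index (h.trans (Subgroup.index_dvd_of_le hPB))

section Four

variable {F : Type} [Field F] [Fintype F] {p f e : ℕ}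

/-- the torus generators -/
theorem exists_torus (he : e = 12 ∨ e = 8) (hp : p.Prime) (hf : 1 ≤ f) (hq : Fintype.card F = p ^ f) :
    ∃ x : ↥(Lie.chevF4.group F), orderOf x = Ph e (p ^ f) := by
  have hq1 : 1 ≤ p ^ f := Nat.one_le_pow _ _ hp.pos
  have hq2 : 2 ≤ p ^ f := hp.two_le.trans (Nat.le_self_pow (by omega) p)
  obtain ⟨r, hr⟩ := exists_prim hq2 (show 3 ≤ e by omega) (by omega)
  have hlt := lt_of_prim hr
  have key : ∀ {m : ℕ}, Cfsg.Agent.H129.CycCard.CycCard ↥(Lie.chevF4.group F) r m 1 →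
      ∃ x : ↥(Lie.chevF4.group F), orderOf x = m := by
    rintro m ⟨C, hC, h1, h2, -, -⟩
    obtain ⟨x, hx⟩ := hC.exists_generator
    refine ⟨(x : ↥(Lie.chevF4.group F)), ?_⟩
    rw [Subgroup.orderOf_coe, orderOf_eq_card_of_forall_mem_zpowers hx]
    rw [one_mul] at h2
    exact Nat.dvd_antisymm h1 h2
  rcases he with rfl | rfl
  · exact key (Cfsg.Agent.H129.CycCard.card_F4_12 hq (m := Ph 12 (p ^ f)) (by rw [cast_Ph12 _ hq1]; ring) hr.prime
      (prim_dvd_12 hr))
  · exact key (Cfsg.Agent.H129.CycCard.card_F4_8 hq (m := Ph 8 (p ^ f)) (by rw [cast_Ph8]; ring) hr.prime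
      (prim_dvd_8 hr) (by omega))

theorem orderOf_conj1 {G : Type*} [Group G] (g x : G) : orderOf (g * x * g⁻¹) = orderOf x :=
  orderOf_injective (MulAut.conj g).toMonoidHom (MulAut.conj g).injective x

/-- **`F₄(q)`, `p ≥ 5`.** -/
theorem noTwo_chevF4_of (tb : OrderTable.{0}) (hcyc : CycFixSolv.{0})
    (hcf : ∀ (S : Type) [Group S] [Finite S] [IsSimpleGroup S], IsKnownSimple' S)
    (hnb1 : ∀ (K : Type) [Field K] [Fintype K] [CharP K p], NB p (PSp 4 K) ((Fintype.card K - 1) ^ 4))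
    (hnb2 : ∀ (K : Type) [Field K] [Fintype K] [CharP K p],
      NB p (POmega K (quadFormOdd 4 K)) ((Fintype.card K - 1) ^ 4))
    (hp : p.Prime) (h5 : 5 ≤ p) (hf : 1 ≤ f) [CharP F p] (hq : Fintype.card F = p ^ f)
    (hpiso : ∀ e, e = 12 ∨ e = 8 → ∀ r, Prim (p ^ f) e r → PIso p r ↥(Lie.chevF4.group F))
    (hK : ∀ B : Subgroup ↥(Lie.chevF4.group F), (∀ e ∈ [12, 8], ∀ r, Prim (p ^ f) e r → ¬ r ∣ B.index) → B = ⊤) :
    NoTwo ↥(Lie.chevF4.group F) := by
  have hD : InList Lie.chevF4 := by simp [InList]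
  have hfin : Finite ↥(Lie.chevF4.group F) := inferInstance
  have hq1 : 1 ≤ p ^ f := Nat.one_le_pow _ _ hp.pos
  obtain ⟨u, hu⟩ := exists_reg (F := F) hD
  obtain ⟨x, hx⟩ := exists_torus (F := F) (e := 12) (Or.inl rfl) hp hf hq
  obtain ⟨y, hy⟩ := exists_torus (F := F) (e := 8) (Or.inr rfl) hp hf hq
  have c12 : Cls 12 := by unfold Cls; omega
  have c8 : Cls 8 := by unfold Cls; omega
  have key : ∀ {e : ℕ}, (e = 12 ∨ e = 8) → ∀ {z : ↥(Lie.chevF4.group F)}, orderOf z = Ph e (p ^ f) →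
      Inc z (⟨u, posUnipotent_le_group hD F hu.1⟩ : ↥(Lie.chevF4.group F)) := by
    intro e he z hz H hH
    by_contra hcon
    push Not at hcon
    obtain ⟨g, hg⟩ := not_av hcon.1
    obtain ⟨g', hg'⟩ := not_av hcon.2
    exact hH (top_of_one tb hcyc hcf hnb1 hnb2 he hp h5 hf hq (hpiso e he) hu
      (x := g * z * g⁻¹) (by rw [orderOf_conj1, hz]) hg rfl hg')
  refine noTwo_of_three (x := x) (y := y) (z := ⟨u, posUnipotent_le_group hD F hu.1⟩) ?_ (key (Or.inr rfl) hy)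
    (key (Or.inl rfl) hx)
  intro H hH
  by_contra hcon
  push Not at hcon
  obtain ⟨g, hg⟩ := not_av hcon.1
  obtain ⟨g', hg'⟩ := not_av hcon.2
  refine hH (hK H fun e he r hr => ?_)
  simp only [List.mem_cons, List.not_mem_nil, or_false] at he
  rcases he with rfl | rfl
  · exact off_one (big_four hq hp (Or.inl rfl) hr) (by rw [orderOf_conj1, hx]) (dvd_Ph c12 hq1 hr) hg
  · exact off_one (big_four hq hp (Or.inr rfl) hr) (by rw [orderOf_conj1, hy]) (dvd_Ph c8 hq1 hr) hg'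

end Four

end Cfsg.Agent.H406.Cov
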