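import Cfsg.Agent.H185.TypedO
import Cfsg.Agent.H460.FTypWitt

/-!
# Orthogonal groups: root group data with all nodes over fields (helper406, after helper185's `H185.TypedO`)

* `ftyped_odd` : `POmega F (quadFormOdd m F)`, type `B_m`, all nodes of order `q`;
* `ftyped_minus` : `POmega F (quadFormMinus m F a b)`, type `B_m`, the last node of order `q ^ 2`.
-/

set_option autoImplicit false

namespace Cfsg.Agent.H406.Cov

open QuadraticMap
open Cfsg Cfsg.Agent.LieClassical Cfsg.Agent.LieClassical.OrthCore Cfsg.Agent.LieClassical.OrthTrans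
open Cfsg.Agent.LieClassical.OrthSimple Cfsg.Agent.LieClassical.OrthFinite Cfsg.Agent.LieClassical.OrthForms
open Cfsg.Agent.ChevalleyStructure.CoxeterGeom Cfsg.Agent.Tits.Roots Cfsg.Agent.Nodes.TypeC
open Cfsg.Agent.Nodes.Comb Cfsg.Agent.Nodes.Reps Cfsg.Agent.Nodes.WittRoot Cfsg.Agent.Nodes.BNOf
open Cfsg.Agent.Nodes.WittRGD Cfsg.Agent.Nodes.RGDLib Cfsg.Agent.Nodes.WittModel Cfsg.Agent.Nodes.WittU
open Cfsg.Agent.TitsThree Cfsg.Agent.TitsThree.Siegel Cfsg.Agent.TitsThree.SiegelGen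
  Cfsg.Agent.TitsThree.WittFrame Cfsg.Agent.TitsThree.WBridge Cfsg.Agent.TitsThree.WittWeyl
  Cfsg.Agent.TitsThree.FrameCN Cfsg.Agent.TitsThree.KSideO
open Cfsg.Agent.FixBN.WittNodeA Cfsg.Agent.FixBN.WittNodeB
open Cfsg.Agent.FixBN.WittNodeO (vec vec_inl vec_inr0 vec_inr1 vec_add vec_smul vec_zero unvec unvec_vec vec_unvec
  vec_injective form_vec polar_vec exists_type cj' cj'_mul cj'_comm cj'_ne_zero vec_mem exists_vec isSolvable_T_of)
open Cfsg.Agent.H460.Typed Cfsg.Agent.H460.FTypWitt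
open Cfsg.Agent.H185.TypedTw (FNode HasFTyped)
open Cfsg.Agent.H185.TypedO (isSolvable_minus ambT_minus)
open Cfsg.Agent.Nodes.WittAll (AmbT)
open Cfsg.Agent.Nodes.WittInst (ambT_O amb_O_of_two fixp_minus)

variable {F : Type} [Field F] [Finite F] {p : ℕ} [Fact p.Prime] [CharP F p]

/-- **`PΩ_{2m+1}(q)`, `q` odd.** -/
theorem ftyped_odd {m : ℕ} (hm : 2 ≤ m) (h2 : (2 : F) ≠ 0) :
    HasFTyped p (Cfsg.POmega F (Cfsg.quadFormOdd m F)) (CoxeterMatrix.B m) (fun _ => Nat.card F) := by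
  rw [← coe_oddForm]
  have hG : Good (oddForm m F) := by
    apply good_of_finite (nondeg_oddForm m F h2)
    rw [Module.finrank_fintype_fun_eq_card, Fintype.card_sum, Fintype.card_sum, Fintype.card_fin,
      Fintype.card_unit]
    omega
  let d : Unit ⊕ (Fin m ⊕ Fin m) → F := Pi.single (Sum.inl ()) 1
  have hd : d ∈ (wodd m F).V0 := fun j => by simp [d]
  have hQ : ∀ a : F, (oddForm m F) (a • d) = a ^ 2 := by
    intro a
    rw [coe_oddForm, quadFormOdd_apply]
    simp [d]
  have hW : (wodd m F).V0 = Submodule.span F {d} := by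
    ext v
    rw [Submodule.mem_span_singleton]
    constructor
    · intro hv
      have hv' : ∀ j, v (Sum.inr j) = 0 := hv
      refine ⟨v (Sum.inl ()), ?_⟩
      funext j
      rcases j with j | j
      · simp [d]
      · simp [d, hv']
    · rintro ⟨c, rfl⟩
      exact Submodule.smul_mem _ _ hd
  let f : F → (toFrame (wodd m F)).Adm := fun a =>
    ⟨a • d, -a ^ 2, Submodule.smul_mem _ _ hd, by rw [← hQ]; rfl⟩
  have hp0 : (f 1).c ≠ 0 := by show -(1 : F) ^ 2 ≠ 0; simp
  refine hasTyped_model (model (wodd m F) hG ⟨f 1, hp0⟩) (AmbT.of_amb (amb_O_of_two _ h2) p) hp0 (by omega) ?_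
    (fun _ _ => rfl) ?_
  · exact Cfsg.Agent.FixBN.WittNodeC.isSolvable_T _ fun g k hg hk =>
      Cfsg.Agent.FixBN.WittNodeC.comm_Tor _ (amb_O_of_two _ h2) d hW hg hk
  · intro R i hi
    have hpol : ∀ a b : F, polar (oddForm m F) (a • d) (b • d) = 2 * a * b := by
      intro a b
      rw [polar_oddForm]
      simp [d]
    refine typedAt_Z hp0 R hi f ?_ ?_ ?_ ?_ ?_
    · intro a b
      apply Frame.Adm.ext
      · show (a + b) • d = a • d + b • d
        rw [add_smul]
      · show -(a + b) ^ 2 = -a ^ 2 + -b ^ 2 - (1 : F)⁻¹ * polar (oddForm m F) (b • d) (a • d)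
        rw [hpol]; ring
    · rintro ⟨w, c, hw, hok⟩
      obtain ⟨a, rfl⟩ : ∃ a : F, a • d = w := by
        rw [hW] at hw
        exact Submodule.mem_span_singleton.1 hw
      have h3 : c = -(oddForm m F) (a • d) := hok
      rw [hQ] at h3
      subst h3
      exact ⟨a, rfl⟩
    · intro a ha
      change -a ^ 2 = 0 at ha
      simpa using ha
    · intro a ha
      show ((1 : F)⁻¹ * -(1 : F) ^ 2 * (-a ^ 2)⁻¹) • (a • d + ((1 : F)⁻¹ * (-(1 : F) ^ 2)⁻¹ *
        polar (oddForm m F) (a • d) ((1 : F) • d)) • ((1 : F) • d)) = (-a⁻¹) • d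
      rw [hpol, smul_smul, ← add_smul, smul_smul]
      congr 1
      field_simp
      ring
    · intro a ha
      show (1 : F)⁻¹ * (-(1 : F) ^ 2 * -(1 : F) ^ 2) * (-a ^ 2)⁻¹ = -(-a⁻¹) ^ 2
      field_simp

open scoped QuadraticAlgebra in
/-- **`PΩ⁻_{2m+2}(q)`, every characteristic.** -/
theorem ftyped_minus {m : ℕ} (hm : 2 ≤ m) (a b : F)
    (hab : ∀ z₁ z₂ : F, z₁ ^ 2 + a * z₁ * z₂ + b * z₂ ^ 2 = 0 → z₁ = 0 ∧ z₂ = 0) :
    HasFTyped p (Cfsg.POmega F (Cfsg.quadFormMinus m F a b)) (CoxeterMatrix.B m)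
      (fun i => if (i : ℕ) + 1 < m then Nat.card F else Nat.card F ^ 2) := by
  have Hab : Fact (∀ r : F, r ^ 2 ≠ -b + a * r) := ⟨fun r hr => by
    have h3 := (hab (-r) 1 (by linear_combination hr)).2
    exact one_ne_zero h3⟩
  rw [← coe_minusForm]
  have hG : Good (minusForm m F a b) := by
    apply good_of_finite (nondeg_minusForm m F a b hab)
    rw [Module.finrank_fintype_fun_eq_card, Fintype.card_sum, Fintype.card_sum, Fintype.card_fin,
      Fintype.card_fin]
    omega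
  have hA : AmbT (toFrame (wminus m F a b hab)) p (E (minusForm m F a b)) := ambT_minus hm a b hab hG
  let f : QuadraticAlgebra F (-b) a → (toFrame (wminus m F a b hab)).Adm := fun z =>
    ⟨vec m a b z, -z.norm, vec_mem hab z, by rw [← form_vec (m := m)]; rfl⟩
  have hp0 : (f 1).c ≠ 0 := by
    show -(1 : QuadraticAlgebra F (-b) a).norm ≠ 0
    rw [map_one]; simp
  have hfinE : Finite (QuadraticAlgebra F (-b) a) := Finite.of_equiv _ (QuadraticAlgebra.equivProd (-b) a).symm
  have hcard : Nat.card (QuadraticAlgebra F (-b) a) = Nat.card F ^ 2 := by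
    rw [Nat.card_congr (QuadraticAlgebra.equivProd (-b) a), Nat.card_prod, _root_.sq]
  have hI : Group.IsSolvable (T (model (wminus m F a b hab) hG ⟨f 1, hp0⟩)) := isSolvable_minus hab hA _ rfl
  refine hasTyped_model (model (wminus m F a b hab) hG ⟨f 1, hp0⟩) hA hp0 (by omega) hI
    (fun i hi => if_pos hi) ?_
  intro R i hi
  rw [if_neg hi, ← hcard]
  refine typedAt_Z hp0 R hi f ?_ ?_ ?_ ?_ ?_
  · intro z w
    apply Frame.Adm.ext
    · exact vec_add z w
    · show -(z + w).norm = -z.norm + -w.norm - (1 : F)⁻¹ * polar (minusForm m F a b) (vec m a b w) (vec m a b z)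
      rw [polar_vec]
      simp only [QuadraticAlgebra.norm_def, QuadraticAlgebra.re_add, QuadraticAlgebra.im_add]
      ring
  · rintro ⟨w, c, hw, hok⟩
    obtain ⟨z, rfl⟩ := exists_vec hab hw
    have h3 : c = -(minusForm m F a b) (vec m a b z) := hok
    rw [form_vec] at h3
    subst h3
    exact ⟨z, rfl⟩
  · intro z hz
    change -z.norm = 0 at hz
    exact QuadraticAlgebra.norm_eq_zero_iff_eq_zero.1 (neg_eq_zero.1 hz)
  · intro z hz
    have hn : z.norm ≠ 0 := fun h => hz (QuadraticAlgebra.norm_eq_zero_iff_eq_zero.1 h)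
    show ((1 : F)⁻¹ * -(1 : QuadraticAlgebra F (-b) a).norm * (-z.norm)⁻¹) • (vec m a b z +
      ((1 : F)⁻¹ * (-(1 : QuadraticAlgebra F (-b) a).norm)⁻¹ *
        polar (minusForm m F a b) (vec m a b z) (vec m a b 1)) • vec m a b 1) = vec m a b (-z⁻¹)
    rw [polar_vec, ← vec_smul, ← vec_add, ← vec_smul]
    congr 1
    rw [QuadraticAlgebra.inv_def, map_one]
    ext
    · simp only [QuadraticAlgebra.re_smul, QuadraticAlgebra.re_add, QuadraticAlgebra.re_neg, QuadraticAlgebra.re_star,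
        QuadraticAlgebra.re_one, QuadraticAlgebra.im_one, smul_eq_mul]
      field_simp
      ring
    · simp only [QuadraticAlgebra.im_smul, QuadraticAlgebra.im_add, QuadraticAlgebra.im_neg, QuadraticAlgebra.im_star,
        QuadraticAlgebra.re_one, QuadraticAlgebra.im_one, smul_eq_mul]
      field_simp
      ring
  · intro z hz
    have hn : z.norm ≠ 0 := fun h => hz (QuadraticAlgebra.norm_eq_zero_iff_eq_zero.1 h)
    show (1 : F)⁻¹ * (-(1 : QuadraticAlgebra F (-b) a).norm * -(1 : QuadraticAlgebra F (-b) a).norm) * (-z.norm)⁻¹ =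
      -(-z⁻¹).norm
    have h3 : (-z⁻¹).norm = z.norm⁻¹ := by
      rw [QuadraticAlgebra.norm_neg, eq_comm, inv_eq_of_mul_eq_one_right]
      rw [← map_mul, mul_inv_cancel₀ hz, map_one]
    rw [h3, map_one]
    field_simp


end Cfsg.Agent.H406.Cov
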