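import Cfsg.Agent.H406.Cov.Top
import Cfsg.Agent.H406.Cov.Node
import Cfsg.Agent.H406.Cov.FTyp
import Cfsg.Agent.H460.FTypC
import Cfsg.Agent.H35.Poin
import Cfsg.Agent.S0270

/-!
# The Sylow normalizer of `PSp_8(q)` and of `Ω_9(q)`, `p` the characteristic (helper406, for S2499)

* `nb_of_model` : a simple group modelled on a Witt frame: `|N(P)| = |P| |T|`;
* `norm_psp`, `norm_oodd` : `(q - 1)^4 |P| ≤ 2 |N(P)|` for `PSp_8(q)` and `Ω_9(q)`.
-/

set_option autoImplicit false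

namespace Cfsg.Agent.H406.Cov

open QuadraticMap Cfsg Cfsg.Agent.LieClassical Cfsg.Agent.LieClassical.OrthCore Cfsg.Agent.LieClassical.OrthTrans
open Cfsg.Agent.LieClassical.OrthSimple Cfsg.Agent.LieClassical.OrthFinite Cfsg.Agent.LieClassical.OrthForms
open Cfsg.Agent.ChevalleyStructure.CoxeterGeom Cfsg.Agent.Tits.Roots Cfsg.Agent.Nodes.TypeC
open Cfsg.Agent.Nodes.Comb Cfsg.Agent.Nodes.Reps Cfsg.Agent.Nodes.WittRoot Cfsg.Agent.Nodes.BNOf
open Cfsg.Agent.Nodes.WittRGD Cfsg.Agent.Nodes.RGDLib Cfsg.Agent.Nodes.WittModel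
open Cfsg.Agent.TitsThree Cfsg.Agent.TitsThree.Siegel Cfsg.Agent.TitsThree.WittFrame
  Cfsg.Agent.TitsThree.WittWeyl Cfsg.Agent.TitsThree.FrameCN
open Cfsg.Agent.FixBN
open scoped commutatorElement

/-! ### The normalizer of a Sylow subgroup -/

theorem nb_of_rgd {p : ℕ} [hp : Fact p.Prime] {K : Type*} [Group K] [Finite K] [IsSimpleGroup K] {l : ℕ} (hl : 0 < l)
    {M : CoxeterMatrix (Fin l)} {A : Fin l → Fin l → ℤ} {h : IsCartan M A} {T : Subgroup K} {n : Fin l → K}
    {X : (Fin l → ℤ) → Subgroup K} [Finite M.Group] (R : RGD M.toCoxeterSystem h p T n X)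
    (hgen : RGD.B M.toCoxeterSystem h T X ⊔ NN M.toCoxeterSystem R.nsys = ⊤) {N : ℕ} (hN : N ≤ 2 * Nat.card ↥T) :
    NB p K N := by
  have hne : (R.bnPair hgen).S.Nonempty := ⟨n ⟨0, hl⟩, ⟨0, hl⟩, rfl⟩
  have S := SplitRGD.split_of_rgd hp.out R hgen (Cfsg.Agent.Tits.OfBN.normalCore_eq_bot (R.bnPair hgen) hne)
  obtain ⟨Q, hQ⟩ := split_sylow S
  refine ⟨Q, ?_⟩
  have h2 : (Q : Set K) = ((RGD.Sup X (RGD.Pos M.toCoxeterSystem h) : Subgroup K) : Set K) := by
    rw [← hQ]; rfl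
  rw [h2, S.normalizer_eq, hQ]
  have h3 : Nat.card ↥(R.bnPair hgen).B = _ := H35.Poin.card_B' R
  rw [h3]
  calc N * Nat.card ↥(RGD.Sup X (RGD.Pos M.toCoxeterSystem h)) ≤
      (2 * Nat.card ↥T) * Nat.card ↥(RGD.Sup X (RGD.Pos M.toCoxeterSystem h)) := Nat.mul_le_mul_right _ hN
    _ = _ := by ring

/-- A group modelled on a Witt frame. -/
theorem nb_of_model {F : Type} [Field F] [Finite F] {V : Type*} [AddCommGroup V] [Module F V] [Finite V]
    {H : HForm F V} {n : ℕ} {Fr : Frame H (Fin n)} {K : Type*} [Group K] [Finite K] [IsSimpleGroup K] (M : Model Fr K)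
    {p : ℕ} [Fact p.Prime] [CharP F p] (hA : Nodes.WittAll.AmbT Fr p M.I) {p0 : Fr.Adm} (hp0 : p0.c ≠ 0)
    (hn : 0 < n) {N : ℕ} (hN : N ≤ 2 * Nat.card ↥(T M)) : NB p K N := by
  have hfin : Finite (CoxeterMatrix.B n).Group := finite_W (CoxeterMatrix.B n).toCoxeterSystem
  have R := Nodes.WittAll.rgdC_model M hA hp0 (CoxeterMatrix.B n).toCoxeterSystem
  exact nb_of_rgd hn R (NodeRGD.gen_of_top R (Nodes.WittModel.G1_eq_top M hn (CoxeterMatrix.B n).toCoxeterSystem)) hN

/-! ### Diagonal maps -/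

section Diag

variable {ι F : Type*} [Field F]

/-- diagonal maps -/
def dg : (ι → Fˣ) →* ((ι → F) ≃ₗ[F] (ι → F)) where
  toFun c :=
    { toFun := fun v x => (c x : F) * v x
      map_add' := fun v w => by funext x; exact mul_add _ _ _
      map_smul' := fun a v => by funext x; simp only [Pi.smul_apply, smul_eq_mul, RingHom.id_apply]; ring
      invFun := fun v x => ((c x)⁻¹ : Fˣ) * v x
      left_inv := fun v => by funext x; simp
      right_inv := fun v => by funext x; simp }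
  map_one' := by ext v x; simp
  map_mul' c d := by ext v x; simp [mul_assoc]

@[simp] theorem dg_apply (c : ι → Fˣ) (v : ι → F) (x : ι) : dg c v x = c x * v x := rfl

theorem dg_single [DecidableEq ι] (c : ι → Fˣ) (j : ι) : dg c (Pi.single j (1 : F)) = (c j : F) • Pi.single j 1 := by
  funext x
  by_cases h : x = j
  · subst h; simp
  · simp [h]

/-- permutations of the coordinates -/
def pw (π : Equiv.Perm ι) : (ι → F) ≃ₗ[F] (ι → F) := LinearEquiv.funCongrLeft F F π

@[simp] theorem pw_apply (π : Equiv.Perm ι) (v : ι → F) (x : ι) : pw π v x = v (π x) := rfl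

theorem pw_dg (π : Equiv.Perm ι) (c : ι → Fˣ) : pw π * dg c * (pw π)⁻¹ = dg (fun x => c (π x)) := by
  rw [mul_inv_eq_iff_eq_mul]
  ext v x
  rfl

/-- a homomorphism whose kernel has at most 2 elements -/
theorem card_le_of_ker {D K : Type*} [Group D] [Finite D] [Group K] [Finite K] (f : D →* K) (z : D) (T : Subgroup K)
    (hT : ∀ d, f d ∈ T) (hk : ∀ d, f d = 1 → d = 1 ∨ d = z) : Nat.card D ≤ 2 * Nat.card ↥T := by
  have h1 : Nat.card ↥f.ker ≤ 2 := by
    have h2 : (f.ker : Set D) ⊆ {1, z} := fun d hd => hk d hd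
    have h3 := Set.ncard_le_ncard h2 (Set.toFinite _)
    exact h3.trans (Set.ncard_insert_le _ _ |>.trans (by rw [Set.ncard_singleton]))
  have h2 : Nat.card ↥f.range ≤ Nat.card ↥T := by
    refine Nat.card_le_card_of_injective (Subgroup.inclusion ?_) (Subgroup.inclusion_injective _)
    rintro _ ⟨d, rfl⟩
    exact hT d
  have h3 := f.ker.index_mul_card
  rw [Subgroup.index_ker] at h3
  rw [← h3, mul_comm]
  exact Nat.mul_le_mul h1 h2

end Diag

/-! ### Symplectic groups -/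

section Symplectic

open SpIdent SpGen

variable (F : Type) [Field F]

/-- the diagonal coordinates -/
def cSp (m : ℕ) : (Fin m → Fˣ) →* (Fin m ⊕ Fin m → Fˣ) where
  toFun s := Sum.elim (fun i => (s i)⁻¹) s
  map_one' := by funext x; rcases x with x | x <;> simp
  map_mul' s t := by funext x; rcases x with x | x <;> simp [mul_comm]

variable {F}

theorem dg_mem_sp {m : ℕ} (s : Fin m → Fˣ) : dg (cSp F m s) ∈ isos (form m F) := by
  intro v w
  show sympForm m F _ _ = sympForm m F _ _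
  rw [Cfsg.Agent.ClassicalGeometry.SympBasic.sympForm_eq_sum, Cfsg.Agent.ClassicalGeometry.SympBasic.sympForm_eq_sum]
  refine Finset.sum_congr rfl fun i _ => ?_
  have h1 : (cSp F m s (Sum.inr i) : F) * cSp F m s (Sum.inl i) = 1 := by
    show ((s i : Fˣ) : F) * ((s i)⁻¹ : Fˣ) = 1
    simp
  rw [dg_apply, dg_apply, dg_apply, dg_apply]
  linear_combination (v (Sum.inr i) * w (Sum.inl i) - v (Sum.inl i) * w (Sum.inr i)) * h1

/-- the diagonal torus of `PSp` -/
noncomputable def torSp (F : Type) [Field F] (m : ℕ) : (Fin m → Fˣ) →* PSp m F where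
  toFun s := toPSp ⟨dg (cSp F m s), dg_mem_sp s⟩
  map_one' := by
    have : (⟨dg (cSp F m 1), dg_mem_sp 1⟩ : isos (form m F)) = 1 := Subtype.ext (by simp)
    rw [this, map_one]
  map_mul' s t := by
    rw [← map_mul]
    congr 1
    exact Subtype.ext (by simp)

theorem torSp_mem {m : ℕ} (s : Fin m → Fˣ) : torSp F m s ∈ T (KInstSp.model m F) := by
  refine Subgroup.mem_map_of_mem _ (Subgroup.mem_subgroupOf.2 ⟨dg_mem_sp s, ?_⟩)
  rintro ⟨i, x⟩
  cases x
  · exact ⟨_, Units.ne_zero _, dg_single _ _⟩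
  · exact ⟨_, Units.ne_zero _, dg_single _ _⟩

theorem torSp_ker {m : ℕ} (s : Fin m → Fˣ) (h : torSp F m s = 1) : s = 1 ∨ s = fun _ => -1 := by
  obtain ⟨a, ha, hv⟩ := exists_smul_of_toPSp_eq_one h
  have h1 : ∀ i, ((s i : Fˣ) : F) = a := by
    intro i
    have h2 := congrFun (hv (Pi.single (Sum.inr i) 1)) (Sum.inr i)
    have h3 : dg (cSp F m s) (Pi.single (Sum.inr i) 1) (Sum.inr i) = s i := by
      rw [dg_apply]; simp [cSp]
    rw [h3] at h2
    simpa using h2
  have ha' : a * a = 1 := by rw [← ha]; ring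
  rcases mul_self_eq_one_iff.1 ha' with h2 | h2
  · left; funext i; exact Units.ext ((h1 i).trans h2)
  · right; funext i; exact Units.ext ((h1 i).trans (by rw [h2]; simp))

/-- **The Sylow normalizer of `PSp_8(q)`.** -/
theorem norm_psp {p : ℕ} [Fact p.Prime] (K : Type) [Field K] [Fintype K] [CharP K p] :
    NB p (PSp 4 K) ((Fintype.card K - 1) ^ 4) := by
  have hS : IsSimpleGroup (PSp 4 K) := Cfsg.Agent.S0270.result 4 (by norm_num) (by norm_num)
  have h10 : (SpIdent.adm 1 : (frame 4 K).Adm).c ≠ 0 := one_ne_zero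
  refine nb_of_model (KInstSp.model 4 K) (Nodes.WittAll.AmbT.of_amb Cfsg.Agent.Nodes.WittU.amb_Sp p) h10 (by norm_num) ?_
  have h1 := card_le_of_ker (torSp K 4) (fun _ => -1) (T (KInstSp.model 4 K)) torSp_mem torSp_ker
  rwa [Nat.card_fun, Nat.card_eq_fintype_card (α := Fin 4), Fintype.card_fin, Nat.card_units,
    Nat.card_eq_fintype_card] at h1

end Symplectic

/-! ### Orthogonal groups -/

section Orthogonal

open Cfsg.Agent.TitsThree.KSideO Cfsg.Agent.TitsThree.WBridge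

variable {F : Type} [Field F]

/-- the diagonal coordinates -/
def cO (F : Type) [Field F] (m : ℕ) : (Fin m → Fˣ) →* (Unit ⊕ (Fin m ⊕ Fin m) → Fˣ) where
  toFun s := Sum.elim (fun _ => 1) (Sum.elim s fun i => (s i)⁻¹)
  map_one' := by funext x; rcases x with x | x | x <;> simp
  map_mul' s t := by funext x; rcases x with x | x | x <;> simp [mul_comm]

theorem dg_mem_O {m : ℕ} (s : Fin m → Fˣ) : dg (cO F m s) ∈ O (oddForm m F) := by
  rw [mem_O]
  intro v
  rw [coe_oddForm, quadFormOdd_apply, quadFormOdd_apply]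
  have h1 : dg (cO F m s) v (Sum.inl ()) = v (Sum.inl ()) := by
    rw [dg_apply]
    show ((1 : Fˣ) : F) * _ = _
    simp
  rw [h1]
  refine congrArg _ (Finset.sum_congr rfl fun i _ => ?_)
  have h2 : (cO F m s (Sum.inr (Sum.inl i)) : F) * cO F m s (Sum.inr (Sum.inr i)) = 1 := by
    show ((s i : Fˣ) : F) * ((s i)⁻¹ : Fˣ) = 1
    simp
  rw [dg_apply, dg_apply]
  linear_combination (v (Sum.inr (Sum.inl i)) * v (Sum.inr (Sum.inr i))) * h2

/-- a permutation of the hyperbolic planes -/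
def pa {m : ℕ} (σ : Equiv.Perm (Fin m)) : Equiv.Perm (Unit ⊕ (Fin m ⊕ Fin m)) :=
  Equiv.sumCongr (Equiv.refl _) (Equiv.sumCongr σ σ)

theorem pa_mem_O {m : ℕ} (σ : Equiv.Perm (Fin m)) : (pw (pa σ) : _ ≃ₗ[F] _) ∈ O (oddForm m F) := by
  rw [mem_O]
  intro v
  rw [coe_oddForm, quadFormOdd_apply, quadFormOdd_apply]
  refine congrArg₂ _ rfl ?_
  exact Equiv.sum_comp σ fun i => v (Sum.inr (Sum.inl i)) * v (Sum.inr (Sum.inr i))

/-- the exchange of the two halves of the frame -/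
def pb (m : ℕ) : Equiv.Perm (Unit ⊕ (Fin m ⊕ Fin m)) :=
  Equiv.sumCongr (Equiv.refl _) (Equiv.sumComm _ _)

theorem pb_mem_O {m : ℕ} : (pw (pb m) : _ ≃ₗ[F] _) ∈ O (oddForm m F) := by
  rw [mem_O]
  intro v
  rw [coe_oddForm, quadFormOdd_apply, quadFormOdd_apply]
  refine congrArg₂ _ rfl (Finset.sum_congr rfl fun i _ => ?_)
  exact mul_comm _ _

/-- the diagonal elements of `Ω` -/
def LO (F : Type) [Field F] (m : ℕ) : Subgroup (Fin m → Fˣ) :=
  (E (oddForm m F)).comap (dg.comp (cO F m))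

theorem mem_LO {m : ℕ} {s : Fin m → Fˣ} : s ∈ LO F m ↔ dg (cO F m s) ∈ E (oddForm m F) := Iff.rfl

variable {m : ℕ} (hG : Good (oddForm m F))

include hG in
theorem comm_mem {π : Equiv.Perm (Unit ⊕ (Fin m ⊕ Fin m))} (hπ : (pw π : _ ≃ₗ[F] _) ∈ O (oddForm m F))
    (s s' : Fin m → Fˣ) (h : ∀ x, cO F m s (π x) = cO F m s' x) : s * s'⁻¹ ∈ LO F m := by
  rw [mem_LO, ← hG.commutator_eq_E]
  have h1 := Subgroup.commutator_mem_commutator (dg_mem_O s) hπ
  have h2 : dg (cO F m (s * s'⁻¹)) = ⁅dg (cO F m s), (pw π : _ ≃ₗ[F] _)⁆ := by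
    rw [commutatorElement_def]
    have h3 : pw π * (dg (cO F m s))⁻¹ * (pw π)⁻¹ = (dg (cO F m s'))⁻¹ := by
      rw [← map_inv dg (cO F m s), pw_dg, ← map_inv dg (cO F m s')]
      congr 1
      funext x
      show (cO F m s (π x))⁻¹ = (cO F m s' x)⁻¹
      rw [h]
    rw [mul_assoc, mul_assoc, ← mul_assoc (pw π), h3, map_mul, map_mul, map_inv, map_inv]
  rwa [h2]

include hG in
theorem sq_mem (s : Fin m → Fˣ) : s * s ∈ LO F m := by
  have h1 := comm_mem hG pb_mem_O s s⁻¹ fun x => by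
    rcases x with x | x | x
    · rfl
    · rfl
    · show s x = (s⁻¹ x)⁻¹
      rw [Pi.inv_apply, inv_inv]
  rwa [inv_inv] at h1

include hG in
theorem move_mem (j k : Fin m) (u : Fˣ) : Pi.mulSingle j u * (Pi.mulSingle k u)⁻¹ ∈ LO F m := by
  have h0 : ∀ i, (Pi.mulSingle j u : Fin m → Fˣ) (Equiv.swap j k i) = (Pi.mulSingle k u : Fin m → Fˣ) i := by
    intro i
    by_cases h1 : i = k
    · subst h1; simp
    · have h2 : Equiv.swap j k i ≠ j := by
        intro h
        apply h1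
        have := congrArg (Equiv.swap j k) h
        rwa [Equiv.swap_apply_self, Equiv.swap_apply_left] at this
      rw [Pi.mulSingle_eq_of_ne h2, Pi.mulSingle_eq_of_ne h1]
  refine comm_mem hG (pa_mem_O (Equiv.swap j k)) _ _ fun x => ?_
  rcases x with x | x | x
  · rfl
  · exact h0 x
  · exact congrArg (·⁻¹) (h0 x)

include hG in
/-- **The diagonal elements of `Ω`.** -/
theorem mem_LO_of (k : Fin m) {s : Fin m → Fˣ} {u : Fˣ} (hu : ∏ j, s j = u * u) : s ∈ LO F m := by
  have h1 : s = (∏ j, (Pi.mulSingle j (s j) * (Pi.mulSingle k (s j))⁻¹)) * ∏ j, Pi.mulSingle k (s j) := by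
    rw [← Finset.prod_mul_distrib]
    simp only [inv_mul_cancel_right]
    exact (Finset.univ_prod_mulSingle s).symm
  have h2 : (∏ j, (Pi.mulSingle k (s j) : Fin m → Fˣ)) = Pi.mulSingle k u * Pi.mulSingle k u := by
    have h3 : (∏ j, (Pi.mulSingle k (s j) : Fin m → Fˣ)) = MonoidHom.mulSingle (fun _ => Fˣ) k (∏ j, s j) := by
      rw [map_prod]; rfl
    rw [h3, hu, map_mul]; rfl
  rw [h1, h2]
  exact mul_mem (Subgroup.prod_mem _ fun j _ => move_mem hG j k _) (sq_mem hG _)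

/-- a parametrisation -/
def psi (F : Type) [Field F] (k : Fin m) : (Fin m → Fˣ) →* (Fin m → Fˣ) where
  toFun t i := if i = k then t k * t k * (∏ j ∈ Finset.univ.erase k, t j)⁻¹ else t i
  map_one' := by funext i; simp
  map_mul' s t := by
    funext i
    by_cases h : i = k
    · subst h
      simp only [if_true, Pi.mul_apply, Finset.prod_mul_distrib, mul_inv]
      rw [mul_mul_mul_comm (s i) (t i) (s i) (t i), mul_mul_mul_comm]
    · simp [h]

theorem psi_prod (k : Fin m) (t : Fin m → Fˣ) : ∏ j, psi F k t j = t k * t k := by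
  rw [← Finset.mul_prod_erase _ _ (Finset.mem_univ k)]
  have h1 : ∏ x ∈ Finset.univ.erase k, psi F k t x = ∏ x ∈ Finset.univ.erase k, t x :=
    Finset.prod_congr rfl fun x hx => if_neg (Finset.ne_of_mem_erase hx)
  have h2 : psi F k t k = t k * t k * (∏ j ∈ Finset.univ.erase k, t j)⁻¹ := if_pos rfl
  rw [h1, h2, inv_mul_cancel_right]

theorem psi_ker (k : Fin m) {t : Fin m → Fˣ} (h : psi F k t = 1) : t = 1 ∨ t = Pi.mulSingle k (-1) := by
  have h1 : ∀ i, i ≠ k → t i = 1 := fun i hi => by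
    have h2 := congrFun h i
    rwa [show psi F k t i = t i from if_neg hi] at h2
  have h3 : t k * t k = 1 := by
    rw [← psi_prod, h]; simp
  have h4 : (t k : F) * t k = 1 := by rw [← Units.val_mul, h3, Units.val_one]
  rcases mul_self_eq_one_iff.1 h4 with h5 | h5
  · left
    funext i
    by_cases hi : i = k
    · subst hi; exact Units.ext h5
    · exact h1 i hi
  · right
    funext i
    by_cases hi : i = k
    · subst hi
      rw [Pi.mulSingle_eq_same]
      exact Units.ext (h5.trans (by simp))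
    · rw [Pi.mulSingle_eq_of_ne hi]
      exact h1 i hi

/-- the torus of `Ω` -/
noncomputable def torO (k : Fin m) : (Fin m → Fˣ) →* Cfsg.POmega F ⇑(oddForm m F) where
  toFun t := toPOmega hG ⟨dg (cO F m (psi F k t)), mem_LO.1 (mem_LO_of hG k (psi_prod k t))⟩
  map_one' := by
    have : (⟨dg (cO F m (psi F k 1)), mem_LO.1 (mem_LO_of hG k (psi_prod k 1))⟩ : E (oddForm m F)) = 1 :=
      Subtype.ext (by simp)
    rw [this, map_one]
  map_mul' s t := by
    rw [← map_mul]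
    congr 1
    exact Subtype.ext (by simp)

theorem torO_mem (k : Fin m) (t : Fin m → Fˣ) (hp : ∃ p : (toFrame (wodd m F)).Adm, p.c ≠ 0) :
    torO hG k t ∈ T (model (wodd m F) hG hp) := by
  refine Subgroup.mem_map_of_mem _ (Subgroup.mem_subgroupOf.2 ⟨mem_LO.1 (mem_LO_of hG k (psi_prod k t)), ?_⟩)
  rintro ⟨i, x⟩
  cases x
  · exact ⟨_, Units.ne_zero _, dg_single _ _⟩
  · exact ⟨_, Units.ne_zero _, dg_single _ _⟩

theorem torO_ker (k : Fin m) (t : Fin m → Fˣ) (h : torO hG k t = 1) : t = 1 ∨ t = Pi.mulSingle k (-1) := by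
  apply psi_ker
  obtain ⟨c, hc⟩ := scalar_of_center hG (center_of_toPOmega hG h)
  have hc1 : c = 1 := by
    have h2 := congrFun (hc (Pi.single (Sum.inl ()) 1)) (Sum.inl ())
    have h3 : dg (cO F m (psi F k t)) (Pi.single (Sum.inl ()) 1) (Sum.inl ()) = 1 := by
      rw [dg_apply]; simp [cO]
    rw [h3] at h2
    simpa using h2.symm
  funext i
  have h2 := congrFun (hc (Pi.single (Sum.inr (Sum.inl i)) 1)) (Sum.inr (Sum.inl i))
  have h3 : dg (cO F m (psi F k t)) (Pi.single (Sum.inr (Sum.inl i)) 1) (Sum.inr (Sum.inl i)) = psi F k t i := by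
    rw [dg_apply]; simp [cO]
  rw [h3, hc1] at h2
  exact Units.ext (by simpa using h2)

/-- **The Sylow normalizer of `Ω_9(q)`, `q` odd.** -/
theorem norm_oodd {p : ℕ} [Fact p.Prime] (K : Type) [Field K] [Fintype K] [CharP K p] (h2 : (2 : K) ≠ 0) :
    NB p (Cfsg.POmega K (Cfsg.quadFormOdd 4 K)) ((Fintype.card K - 1) ^ 4) := by
  rw [← coe_oddForm]
  have hG : Good (oddForm 4 K) := by
    apply good_of_finite (nondeg_oddForm 4 K h2)
    rw [Module.finrank_fintype_fun_eq_card, Fintype.card_sum, Fintype.card_sum, Fintype.card_fin,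
      Fintype.card_unit]
    omega
  let d : Unit ⊕ (Fin 4 ⊕ Fin 4) → K := Pi.single (Sum.inl ()) 1
  have hd : d ∈ (wodd 4 K).V0 := fun j => by simp [d]
  let p0 : (toFrame (wodd 4 K)).Adm := ⟨d, -1, hd, by
    show (-1 : K) = -(oddForm 4 K) d
    rw [coe_oddForm, quadFormOdd_apply]
    simp [d]⟩
  have hp0 : p0.c ≠ 0 := by show -(1 : K) ≠ 0; simp
  have hS : IsSimpleGroup (Cfsg.POmega K ⇑(oddForm 4 K)) := isSimpleGroup_POmega_of_good hG
  refine nb_of_model (model (wodd 4 K) hG ⟨p0, hp0⟩)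
    (Nodes.WittAll.AmbT.of_amb (Cfsg.Agent.Nodes.WittInst.amb_O_of_two _ h2) p) hp0 (by norm_num) ?_
  have h1 := card_le_of_ker (torO hG 0) (Pi.mulSingle 0 (-1)) (T (model (wodd 4 K) hG ⟨p0, hp0⟩))
    (fun t => torO_mem hG 0 t _) (torO_ker hG 0)
  rwa [Nat.card_fun, Nat.card_eq_fintype_card (α := Fin 4), Fintype.card_fin, Nat.card_units,
    Nat.card_eq_fintype_card] at h1

end Orthogonal

end Cfsg.Agent.H406.Cov
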