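import Cfsg.Agent.H406.Cov.Asm
import Cfsg.Agent.H406.Cov.Nrm
import Cfsg.Agent.H563.KG.KF4

/-!
# `F₄(q)`, `p ≥ 5`, is not the union of the conjugates of two proper subgroups (helper406)

* `noTwo_f4` : from the order table, CFSG and the solvability of groups with an automorphism of prime order with cyclic
  centralizer (these are discharged in `F4F`).
-/

set_option autoImplicit false

namespace Cfsg.Agent.H406.Cov

open Cfsg Cfsg.Agent.OrdDiv Cfsg.Agent.H436 Cfsg.Agent.H56.Exc Cfsg.Agent.H563.KG Cfsg.Agent.H278.Cov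
  Cfsg.Agent.H325.IsoExc

/-- **`F₄(q)`, characteristic at least 5.** -/
theorem noTwo_f4 (tb : OrderTable.{0}) (hcyc : CycFixSolv.{0}) (hcf : CF) {q : ℕ} {T : Type*} [Group T]
    (h : IsNamed (.f4 q) T) {p f : ℕ} (hp : p.Prime) (h5 : 5 ≤ p) (hq : q = p ^ f) : NoTwo T := by
  obtain ⟨F, _, _, hF, ⟨e⟩⟩ := h.real
  have hf : 1 ≤ f := by
    rcases Nat.eq_zero_or_pos f with rfl | h1
    · have h2 : 1 < q := h.cond.one_lt
      rw [hq, pow_zero] at h2
      omega
    · exact h1
  have := Fact.mk hp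
  have := charP_of hp (hF.trans hq)
  have h2 : ∀ (K : Type) [Field K] [CharP K p], (2 : K) ≠ 0 := by
    intro K _ _ h0
    have h3 : ((2 : ℕ) : K) = 0 := by exact_mod_cast h0
    have h4 := Nat.le_of_dvd (by norm_num) ((CharP.cast_eq_zero_iff K p 2).1 h3)
    omega
  refine (noTwo_chevF4_of (F := F) tb hcyc hcf (fun K _ _ _ => norm_psp K) (fun K _ _ _ => norm_oodd K (h2 K))
    hp h5 hf (hF.trans hq)
    (fun e he r hr => piso_F4 (F := F) (p := p) he.symm (by rw [hF, hq]; exact hr))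
    (fun B hB => K_F4 tb hcyc hcf B (by rw [hF, hq]; exact hB))).congr e.symm

end Cfsg.Agent.H406.Cov
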