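import Cfsg.Agent.H406.Cov.Node
import Cfsg.Agent.H406.Cov.FTyp
import Cfsg.Agent.H406.Cov.Elim1
import Cfsg.Agent.H460.FTypC
import Cfsg.Agent.H460.FTypO
import Cfsg.Agent.H460.FTypedAE
import Cfsg.Agent.H188.Der.Sug

/-!
# The restriction of the field by the nodes (helper406)

* `nd_psu3` : `PSU₃(q)` has a torus element of order `(q² - 1) / (3, q + 1)` normalizing a Sylow `p`-subgroup;
* `nf_of` : the field restriction `NF` for the groups of Lie type in characteristic `p`.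
-/

set_option autoImplicit false

namespace Cfsg.Agent.H406.Cov

open Cfsg Cfsg.Agent.OrdDiv Cfsg.Agent.H436 Cfsg.Agent.H915.GN Cfsg.Agent.H264.FKS Cfsg.Lie
open Cfsg.Agent.Nodes.RGDChev (IsType typeList)
open Cfsg.Agent.H185.TypedTw (FNode HasFTyped)

theorem charP_of {F : Type} [Field F] [Fintype F] {p n : ℕ} (hp : p.Prime) (h : Fintype.card F = p ^ n) :
    CharP F p := by
  obtain ⟨r, hr⟩ := CharP.exists F
  obtain ⟨k, hk1, hk2⟩ := FiniteField.card F r
  have h1 : r ∣ p ^ n := by rw [← h, hk2]; exact dvd_pow_self r k.pos.ne'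
  rw [← (Nat.prime_dvd_prime_iff_eq hk1 hp).1 (hk1.dvd_of_dvd_pow h1)]
  exact hr

theorem simple_of {S K : Type*} [Group S] [Group K] [hS : IsSimpleGroup S] (e : S ≃* K) : IsSimpleGroup K := by
  have : Nontrivial K := e.symm.toEquiv.nontrivial
  exact IsSimpleGroup.isSimpleGroup_of_surjective e.toMonoidHom e.surjective

theorem nd_iso {p : ℕ} [Fact p.Prime] {S K : Type*} [Group S] [Finite S] [IsSimpleGroup S] [Group K] (e : S ≃* K)
    {l : ℕ} {M : CoxeterMatrix (Fin l)} {Q : Fin l → ℕ} (T : HasFTyped p K M Q) (i : Fin l) : ND p S (Q i) := by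
  have : Finite K := Finite.of_equiv S e.toEquiv
  have : IsSimpleGroup K := simple_of e
  exact (nd_of_ftyped T i).of_equiv e.symm

/-- **`PSU₃(q)`.** -/
theorem nd_psu3 {F : Type} [Field F] [Fintype F] {q p : ℕ} [hp : Fact p.Prime] [CharP F p] {f₁ : ℕ} (hq : q = p ^ f₁)
    (hf₁ : 1 ≤ f₁) (hF : Fintype.card F = q ^ 2)
    (hN : Nat.gcd 3 (q + 1) * (q + 1) * Nat.card (PSU 3 F q) = q ^ 3 * prU q 3) : ND p (PSU 3 F q) (q ^ 2) := by
  have hpq : p ∣ q := hq ▸ dvd_pow_self p (by omega)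
  have hq1 : 1 < q := lt_of_lt_of_le hp.out.one_lt (Nat.le_of_dvd (by rw [hq]; exact pow_pos hp.out.pos _) hpq)
  obtain ⟨B, U, c, w, R⟩ := Cfsg.Agent.H188.Der.exists_ro (F := F) (p := p) hF hq1
  have hfin : Finite (PSU 3 F q) := Quotient.finite _
  have hsub : ∀ {n : ℕ}, 1 ≤ n → ¬ p ∣ q ^ n - 1 := by
    intro n hn h
    have h1 : p ∣ q ^ n := hpq.trans (dvd_pow_self q (by omega))
    have h2 : 1 ≤ q ^ n := Nat.one_le_pow _ _ (by omega)
    have h3 := Nat.dvd_sub h1 h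
    rw [Nat.sub_sub_self h2] at h3
    exact hp.out.one_lt.ne' (Nat.dvd_one.1 h3)
  have hadd : ∀ {n : ℕ}, 1 ≤ n → ¬ p ∣ q ^ n + 1 := by
    intro n hn h
    have h1 : p ∣ q ^ n := hpq.trans (dvd_pow_self q (by omega))
    exact hp.out.one_lt.ne' (Nat.dvd_one.1 ((Nat.dvd_add_right h1).1 h))
  have hpr : ¬ p ∣ prU q 3 := by
    have h1 : prU q 3 = (q ^ 1 + 1) * ((q ^ 2 - 1) * (q ^ 3 + 1)) := by
      simp [prU, List.range_succ]
    rw [h1]
    intro h
    rcases hp.out.dvd_mul.1 h with h | h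
    · exact hadd le_rfl h
    rcases hp.out.dvd_mul.1 h with h | h
    · exact hsub (by norm_num) h
    · exact hadd (by norm_num) h
  have hidx : ¬ p ∣ U.index := by
    intro h
    apply hpr
    rw [← U.index_mul_card, R.cardU] at hN
    have h3 : 0 < q ^ 3 := by positivity
    have h4 : Nat.gcd 3 (q + 1) * (q + 1) * U.index = prU q 3 := by
      apply Nat.eq_of_mul_eq_mul_right h3
      rw [mul_assoc, hN]; ring
    rw [← h4]
    exact h.mul_left _
  let P : Sylow p (PSU 3 F q) := R.pU.toSylow hidx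
  have hPU : ∀ x, x ∈ P ↔ x ∈ U := fun x => Iff.rfl
  refine ⟨P, c, Nat.gcd 3 (q + 1), ?_, Nat.gcd_pos_of_pos_left _ (by norm_num), Nat.gcd_le_left _ (by norm_num), ?_⟩
  · refine Subgroup.mem_normalizer_iff.2 fun y => ?_
    constructor
    · intro hy
      exact R.data.norm c R.cB y hy
    · intro hy
      have h1 : c⁻¹ * (c * y * c⁻¹) * c⁻¹⁻¹ ∈ U := R.data.norm c⁻¹ (inv_mem R.cB) _ hy
      have h2 : c⁻¹ * (c * y * c⁻¹) * c⁻¹⁻¹ = y := by group
      rw [h2] at h1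
      exact h1
  · intro k hk
    have hkU : c ^ k ∈ U := hk
    -- the order of `c ^ k` is prime to `p`
    have hd : Nat.gcd 3 (q + 1) ∣ q ^ 2 - 1 := by
      have h1 : q ^ 2 - 1 = (q + 1) * (q - 1) := by
        have := Nat.sq_sub_sq q 1
        rwa [one_pow] at this
      rw [h1]
      exact (Nat.gcd_dvd_right _ _).mul_right _
    have hc1 : c ^ k = 1 := by
      have h1 : orderOf (c ^ k) ∣ q ^ 2 - 1 := by
        refine (orderOf_dvd_of_pow_eq_one (n := orderOf c) ?_).trans ?_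
        · rw [← pow_mul, mul_comm, pow_mul, pow_orderOf_eq_one, one_pow]
        · rw [R.oc]
          exact Nat.div_dvd_of_dvd hd
      obtain ⟨j, hj⟩ := (IsPGroup.iff_orderOf.1 R.pU) ⟨c ^ k, hkU⟩
      rw [Subgroup.orderOf_mk] at hj
      rw [← orderOf_eq_one_iff]
      rcases Nat.eq_zero_or_pos j with rfl | hj0
      · rw [hj, pow_zero]
      · exfalso
        apply hsub (n := 2) (by norm_num)
        refine dvd_trans ?_ h1
        rw [hj]
        exact dvd_pow_self p hj0.ne'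
    have h1 : orderOf c ∣ k := orderOf_dvd_of_pow_eq_one hc1
    rw [R.oc] at h1
    obtain ⟨j, rfl⟩ := h1
    rw [← mul_assoc, Nat.mul_div_cancel' hd]
    exact Dvd.intro _ rfl

variable {p f f₁ : ℕ} {g : Grp}

/-- **The field restriction.** -/
theorem nf_of {S : Type} [Group S] [Finite S] [IsSimpleGroup S] (hp : p.Prime) (h5 : 5 ≤ p) (hg : IsNamed g S)
    (hfl : fld g = p ^ f₁) (hf₁ : 1 ≤ f₁) (H : ∀ a, 1 ≤ a → ND p S (p ^ a) → a ∣ f) : NF g f₁ f := by
  have hpf := Fact.mk hp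
  obtain ⟨hr, hc, he, -⟩ := hg
  cases g
  case psl m q =>
    obtain ⟨F, _, _, hF, ⟨e⟩⟩ := hr
    obtain rfl : q = p ^ f₁ := hfl
    have := charP_of hp hF
    obtain ⟨n, rfl⟩ : ∃ n, m = n + 1 := ⟨m - 1, by have := hc.1; omega⟩
    have h1 := nd_iso e (Cfsg.Agent.H460.FTypedAE.ftyped_psl F (p := p) (n := n) (by have := hc.1; omega))
      ⟨0, by have := hc.1; omega⟩
    rw [Nat.card_eq_fintype_card, hF] at h1
    exact H f₁ hf₁ h1
  case psp m q =>
    obtain ⟨F, _, _, hF, ⟨e⟩⟩ := hr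
    obtain rfl : q = p ^ f₁ := hfl
    have := charP_of hp hF
    have h1 := nd_iso e (Cfsg.Agent.H460.FTypC.ftyped_psp F (p := p) (m := m) (by have := hc.1; omega))
      ⟨0, by have := hc.1; omega⟩
    rw [Nat.card_eq_fintype_card, hF] at h1
    exact H f₁ hf₁ h1
  case psu m q =>
    obtain ⟨F, _, _, hF, ⟨e⟩⟩ := hr
    obtain rfl : q = p ^ f₁ := hfl
    have := charP_of (n := f₁ * 2) hp (by rw [hF, pow_mul])
    rintro (rfl | rfl)
    · have hN : Nat.gcd 3 (p ^ f₁ + 1) * (p ^ f₁ + 1) * Nat.card (PSU 3 F (p ^ f₁)) = (p ^ f₁) ^ 3 * prU (p ^ f₁) 3 := by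
        rw [← Nat.card_congr e.toEquiv]
        exact he
      have h1 := (nd_psu3 (F := F) rfl hf₁ hF hN).of_equiv e.symm
      rw [← pow_mul, mul_comm] at h1
      exact H (2 * f₁) (by omega) h1
    · have h1 := nd_iso e (Cfsg.Agent.H460.FTypC.ftyped_psu_even (p := p) hF (m := 2) le_rfl) ⟨0, by norm_num⟩
      rw [if_pos (by norm_num), ← pow_mul, mul_comm] at h1
      exact H (2 * f₁) (by omega) h1
  case oodd m q =>
    obtain ⟨F, _, _, hF, ⟨e⟩⟩ := hr
    obtain rfl : q = p ^ f₁ := hfl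
    have := charP_of hp hF
    have h2 : (2 : F) ≠ 0 := by
      intro h
      have h3 : p ∣ 2 := (CharP.cast_eq_zero_iff F p 2).1 (by exact_mod_cast h)
      have := Nat.le_of_dvd (by norm_num) h3
      omega
    have h1 := nd_iso e (ftyped_odd (F := F) (p := p) (m := m) (by have := hc.1; omega) h2)
      ⟨0, by have := hc.1; omega⟩
    rw [Nat.card_eq_fintype_card, hF] at h1
    exact H f₁ hf₁ h1
  case oplus m q =>
    obtain ⟨F, _, _, hF, ⟨e⟩⟩ := hr
    obtain rfl : q = p ^ f₁ := hfl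
    have := charP_of hp hF
    have h1 := nd_iso e (Cfsg.Agent.H460.FTypO.ftyped_plus (F := F) (p := p) (m := m) (by have := hc.1; omega))
      ⟨0, by omega⟩
    rw [Nat.card_eq_fintype_card, hF] at h1
    exact H f₁ hf₁ h1
  case ominus m q =>
    obtain ⟨F, _, _, a, b, hF, hab, ⟨e⟩⟩ := hr
    obtain rfl : q = p ^ f₁ := hfl
    have := charP_of hp hF
    have hm : 2 ≤ m - 1 := by have := hc.1; omega
    have h1 := nd_iso e (ftyped_minus (F := F) (p := p) (m := m - 1) hm a b hab) ⟨m - 2, by omega⟩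
    rw [if_neg (by show ¬ (m - 2 + 1 < m - 1); omega), Nat.card_eq_fintype_card, hF, ← pow_mul, mul_comm] at h1
    exact H (2 * f₁) (by omega) h1
  case g2 q =>
    obtain ⟨F, _, _, hF, ⟨e⟩⟩ := hr
    obtain rfl : q = p ^ f₁ := hfl
    have := charP_of hp hF
    have h1 := nd_iso e (Cfsg.Agent.H460.FTypedAE.ftyped_chev (D := chevG2) (l := 2) (M := CoxeterMatrix.G₂)
      (by simp [IsType, typeList]) F p) ⟨0, by norm_num⟩
    rw [Nat.card_eq_fintype_card, hF] at h1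
    exact H f₁ hf₁ h1
  case f4 q =>
    obtain ⟨F, _, _, hF, ⟨e⟩⟩ := hr
    obtain rfl : q = p ^ f₁ := hfl
    have := charP_of hp hF
    have h1 := nd_iso e (Cfsg.Agent.H460.FTypedAE.ftyped_chev (D := chevF4) (l := 4) (M := CoxeterMatrix.F₄)
      (by simp [IsType, typeList]) F p) ⟨0, by norm_num⟩
    rw [Nat.card_eq_fintype_card, hF] at h1
    exact H f₁ hf₁ h1
  case e6 q =>
    obtain ⟨F, _, _, hF, ⟨e⟩⟩ := hr
    obtain rfl : q = p ^ f₁ := hfl
    have := charP_of hp hF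
    have h1 := nd_iso e (Cfsg.Agent.H460.FTypedAE.ftyped_chev (D := chevE6) (l := 6) (M := CoxeterMatrix.E₆)
      (by simp [IsType, typeList]) F p) ⟨0, by norm_num⟩
    rw [Nat.card_eq_fintype_card, hF] at h1
    exact H f₁ hf₁ h1
  case e7 q =>
    obtain ⟨F, _, _, hF, ⟨e⟩⟩ := hr
    obtain rfl : q = p ^ f₁ := hfl
    have := charP_of hp hF
    have h1 := nd_iso e (Cfsg.Agent.H460.FTypedAE.ftyped_chev (D := chevE7) (l := 7) (M := CoxeterMatrix.E₇)
      (by simp [IsType, typeList]) F p) ⟨0, by norm_num⟩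
    rw [Nat.card_eq_fintype_card, hF] at h1
    exact H f₁ hf₁ h1
  case e8 q =>
    obtain ⟨F, _, _, hF, ⟨e⟩⟩ := hr
    obtain rfl : q = p ^ f₁ := hfl
    have := charP_of hp hF
    have h1 := nd_iso e (Cfsg.Agent.H460.FTypedAE.ftyped_chev (D := chevE8) (l := 8) (M := CoxeterMatrix.E₈)
      (by simp [IsType, typeList]) F p) ⟨0, by norm_num⟩
    rw [Nat.card_eq_fintype_card, hF] at h1
    exact H f₁ hf₁ h1
  case td4 q =>
    obtain ⟨F, _, _, hF, ⟨e⟩⟩ := hr
    obtain rfl : q = p ^ f₁ := hfl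
    have := charP_of (n := f₁ * 3) hp (by rw [hF, pow_mul])
    have h1 := nd_iso e (Cfsg.Agent.H185.TypedTw.ftyped_3D4 F (p := p) (q := p ^ f₁)
      (hp.isPrimePow.pow (by omega)) (by rw [Nat.card_eq_fintype_card, hF])) 1
    have h2 : (![p ^ f₁, (p ^ f₁) ^ 3] : Fin 2 → ℕ) 1 = p ^ (3 * f₁) := by
      show (p ^ f₁) ^ 3 = _
      rw [← pow_mul, mul_comm]
    rw [h2] at h1
    exact H (3 * f₁) (by omega) h1
  all_goals exact trivial

end Cfsg.Agent.H406.Cov
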