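import Cfsg.Agent.H406.Cov.Tab5
import Cfsg.Agent.H406.Cov.Nf
import Cfsg.Agent.H406.Cov.Red1
import Cfsg.Agent.H264.FKS.Res
import Cfsg.Agent.H290.ElRich
import Cfsg.Agent.H56.Exc.BigRows

/-!
# Subgroups of `F₄(q)`, `p ≥ 5`, containing one cyclic torus and a regular unipotent element (helper406)

* `exists_name5` : naming of the simple normal subgroup, one class of tori;
* `core_one` : a subgroup `B` of `F₄(q)` containing an element of order `Φ_e(q)`, `e = 8, 12`, and a regular unipotent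
  element has a simple normal subgroup `S` of Lie type in characteristic `p`, of index prime to `p`;
* `four_of_one` : `S` is `F₄(q)`, or `e = 8` and `S` is `PSp₈(q)`, `Ω₉(q)` or `PΩ⁺₁₀(q)`.
-/

set_option autoImplicit false

namespace Cfsg.Agent.H406.Cov

open Cfsg Cfsg.Agent.OrdDiv Cfsg.Agent.H436 Cfsg.Agent.H902 Cfsg.Agent.H902.Names Cfsg.Agent.H915.GN
  Cfsg.Agent.H290.ElReg Cfsg.Agent.H264.GN Cfsg.Agent.H264.FKS Cfsg.Agent.H56.Exc Cfsg.Agent.H325.Loc
open Cfsg.Agent.H563.KG hiding mod_of_prim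

/-! ### Alternating groups -/

theorem pow_dvd_factorial_mul {p : ℕ} (hp : 1 ≤ p) (k : ℕ) : p ^ k ∣ (p * k).factorial := by
  induction k with
  | zero => simp
  | succ k ih =>
    have h1 : (p * k).factorial * p.factorial ∣ (p * k + p).factorial :=
      Nat.factorial_mul_factorial_dvd_factorial_add _ _
    have h2 : p ∣ p.factorial := Nat.dvd_factorial hp le_rfl
    rw [pow_succ, Nat.mul_succ]
    exact (Nat.mul_dvd_mul ih h2).trans h1

theorem two_mul_card_alt {S : Type*} [Group S] {m : ℕ} (hm : 2 ≤ m) (Φ : S ≃* alternatingGroup (Fin m)) :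
    2 * Nat.card S = m.factorial := by
  have : Nontrivial (Fin m) := Fin.nontrivial_iff_two_le.2 hm
  rw [Nat.card_congr Φ.toEquiv, Nat.card_eq_fintype_card, two_mul_card_alternatingGroup, Fintype.card_perm,
    Fintype.card_fin]

/-- in the alternating group `A_m` the number `ncl e q` is at most `m` (after helper563's `window`) -/
theorem ncl_le_alt {q e m : ℕ} (hq : 2 ≤ q) (he : Cls e) {S : Type*} [Group S] [Finite S] (hm : 2 ≤ m)
    (Φ : S ≃* alternatingGroup (Fin m)) (hn : ncl e q ∣ Nat.card S)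
    (hcen : ∀ r, Prim q e r → ∀ x : S, orderOf x = r → Group.IsNilpotent (Subgroup.centralizer ({x} : Set S))) :
    ncl e q ≤ m := by
  have he7 := he.ge
  obtain ⟨r, hr⟩ := exists_prim hq (show 3 ≤ e by omega) (by omega)
  have key : ∀ s, Prim q e s → s ≤ m ∧ m ≤ s + 3 := fun s hs => by
    have h1 : s ∣ Nat.card S := (dvd_ncl he (by omega) hs).trans hn
    have h5 := lt_of_prim hs
    exact ⟨Cfsg.Agent.H290.ElRich.le_of_dvd_alt hs.prime hm Φ h1,
      Cfsg.Agent.H290.ElRich.alt_le hs.prime (by omega) Φ h1 (hcen s hs)⟩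
  have hmod : ∀ s, Prim q e s → e ∣ s - 1 := fun s hs =>
    Nat.dvd_of_mod_eq_zero (Cfsg.Agent.H563.KG.mod_of_prim hq (by omega) hs)
  have huniq : ∀ {s : ℕ}, s.Prime → s ∣ ncl e q → s = r := by
    intro s hs hsd
    have hs' := prim_of_dvd he (by omega) hs hsd
    have h1 := key s hs'
    have h2 := key r hr
    have h3 := hmod s hs'
    have h4 := hmod r hr
    have h5 := lt_of_prim hs'
    have h6 := lt_of_prim hr
    by_contra hne
    rcases Nat.lt_or_gt_of_ne hne with h | h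
    · have h7 := Nat.le_of_dvd (by omega) (Nat.dvd_sub h4 h3)
      omega
    · have h7 := Nat.le_of_dvd (by omega) (Nat.dvd_sub h3 h4)
      omega
  have hpow := Nat.eq_prime_pow_of_unique_prime_dvd (ncl_pos e (by omega : 1 ≤ q)).ne' huniq
  set k := (ncl e q).primeFactorsList.length with hk
  have hr1 : r ∣ ncl e q := dvd_ncl he (by omega) hr
  have h2 := key r hr
  have h8 := lt_of_prim hr
  have hk1 : k = 1 := by
    have hk0 : k ≠ 0 := by
      intro h0
      rw [h0, pow_zero] at hpow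
      rw [hpow] at hr1
      exact hr.prime.one_lt.ne' (Nat.dvd_one.1 hr1)
    by_contra hk1
    have h3 : r ^ 2 ∣ ncl e q := by rw [hpow]; exact pow_dvd_pow _ (by omega)
    have h4 := two_mul_card_alt hm Φ
    have h5 : r ^ 2 ∣ m.factorial := by
      rw [← h4]
      exact (h3.trans hn).mul_left _
    have hlog : Nat.log r m < 2 := by
      apply Nat.log_lt_of_lt_pow' (by norm_num)
      nlinarith
    rw [Nat.Prime.pow_dvd_factorial_iff hr.prime hlog] at h5
    have h6 : ∑ i ∈ Finset.Ico 1 2, m / r ^ i = m / r := by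
      rw [Finset.sum_Ico_succ_top (by norm_num), Finset.Ico_self, Finset.sum_empty, zero_add, pow_one]
    rw [h6] at h5
    have h7 : m / r < 2 := Nat.div_lt_of_lt_mul (by omega)
    omega
  rw [hpow, hk1, pow_one]
  exact h2.1

theorem pow_bd {p : ℕ} (h5 : 5 ≤ p) : ∀ f : ℕ, 1 ≤ f → 2 * (p * (24 * f + 1)) ≤ (p ^ f) ^ 4 := by
  intro f hf
  induction f, hf using Nat.le_induction with
  | base =>
    have h1 : 5 ^ 3 ≤ p ^ 3 := Nat.pow_le_pow_left h5 3
    have h2 : (p ^ 1) ^ 4 = p * p ^ 3 := by ring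
    rw [h2]
    calc 2 * (p * (24 * 1 + 1)) = p * 50 := by ring
      _ ≤ p * p ^ 3 := Nat.mul_le_mul_left _ (by omega)
  | succ n hn ih =>
    have h1 : 5 ^ 4 ≤ p ^ 4 := Nat.pow_le_pow_left h5 4
    have h2 : (p ^ (n + 1)) ^ 4 = p ^ 4 * (p ^ n) ^ 4 := by ring
    rw [h2]
    calc 2 * (p * (24 * (n + 1) + 1)) ≤ 5 ^ 4 * (2 * (p * (24 * n + 1))) := by nlinarith
      _ ≤ p ^ 4 * (p ^ n) ^ 4 := Nat.mul_le_mul h1 ih

theorem ncl_ge {p f e : ℕ} (h5 : 5 ≤ p) (hf : 1 ≤ f) (he : e = 12 ∨ e = 8) : p * (24 * f + 1) ≤ ncl e (p ^ f) := by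
  have h1 := pow_bd h5 f hf
  have hq : 5 ≤ p ^ f := h5.trans (Nat.le_self_pow (by omega) p)
  rcases he with rfl | rfl
  · rw [ncl12_eq, Ph12_eq (by omega)]
    generalize p ^ f = Q at *
    have h2 : 5 ^ 2 ≤ Q ^ 2 := Nat.pow_le_pow_left hq 2
    have h3 : Q ^ 4 = Q ^ 2 * Q ^ 2 := by ring
    rw [h3] at h1
    obtain ⟨a, ha⟩ : ∃ a, Q ^ 2 = a + 1 := ⟨Q ^ 2 - 1, by omega⟩
    rw [ha] at h1 h2 ⊢
    rw [Nat.add_sub_cancel]
    nlinarith
  · have h2 : Ph 8 (p ^ f) ≤ ncl 8 (p ^ f) * 2 := Ph_le 8 (p ^ f) (by decide)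
    have h3 : Ph 8 (p ^ f) = (p ^ f) ^ 4 + 1 := rfl
    omega

theorem no_alt {p f e m : ℕ} (hp : p.Prime) (h5 : 5 ≤ p) (hf : 1 ≤ f) (he : e = 12 ∨ e = 8) {S : Type*} [Group S]
    (hm : 2 ≤ m) (Φ : S ≃* alternatingGroup (Fin m)) (hle : ncl e (p ^ f) ≤ m)
    (hd : Nat.card S ∣ num (.f4 (p ^ f))) : False := by
  have h1 := (ncl_ge h5 hf he).trans hle
  have h2 : p ^ (24 * f + 1) ∣ m.factorial :=
    (pow_dvd_factorial_mul hp.one_le _).trans (Nat.factorial_dvd_factorial h1)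
  rw [← two_mul_card_alt hm Φ] at h2
  have h3 : p ^ (24 * f + 1) ∣ Nat.card S := by
    refine Nat.Coprime.dvd_of_dvd_mul_left (Nat.Coprime.pow_left _ ?_) h2
    rw [Nat.coprime_primes hp Nat.prime_two]
    omega
  have h4 := (Cfsg.Agent.H325.Same.td_f4 hp hf hd).pp h3
  omega

/-! ### The name -/

/-- a name is alternating, sporadic (or the Tits group), or of Lie type (copy of `H192.Singer.cases_name`) -/
theorem cases_name {g : Grp} (hc : Cond g) :
    (∃ m, g = .alt m) ∨ g ∈ OrdDiv.spor.map (fun x => x.1) ∨ ∃ r, r.Prime ∧ HasChar r g := by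
  have hpp : ∀ {q : ℕ}, IsPrimePow q → ∃ r : ℕ, r.Prime ∧ ∃ f, q = r ^ f := by
    intro q hq
    obtain ⟨r, f, hr, -, h⟩ := (isPrimePow_nat_iff q).1 hq
    exact ⟨r, hr, f, h.symm⟩
  cases g with
  | alt n => exact .inl ⟨n, rfl⟩
  | psl n q => exact .inr (.inr (hpp hc.2.2))
  | psp n q => exact .inr (.inr (hpp hc.2.2))
  | psu n q => exact .inr (.inr (hpp hc.2.2))
  | oodd n q => exact .inr (.inr (hpp hc.2.2))
  | oplus n q => exact .inr (.inr (hpp hc.2))
  | ominus n q => exact .inr (.inr (hpp hc.2))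
  | g2 q => exact .inr (.inr (hpp hc.2))
  | f4 q => exact .inr (.inr (hpp hc))
  | e6 q => exact .inr (.inr (hpp hc))
  | e7 q => exact .inr (.inr (hpp hc))
  | e8 q => exact .inr (.inr (hpp hc))
  | te6 q => exact .inr (.inr (hpp hc))
  | td4 q => exact .inr (.inr (hpp hc))
  | sz q => obtain ⟨m, -, rfl⟩ := hc; exact .inr (.inr ⟨2, Nat.prime_two, _, rfl⟩)
  | ree q => obtain ⟨m, -, rfl⟩ := hc; exact .inr (.inr ⟨3, Nat.prime_three, _, rfl⟩)
  | tf4 q => obtain ⟨m, -, rfl⟩ := hc; exact .inr (.inr ⟨2, Nat.prime_two, _, rfl⟩)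
  | _ => exact .inr (.inl (by decide))

theorem spor_mem {g : Grp} (hg : g ∈ OrdDiv.spor.map (fun x => x.1)) : (g, ordN g) ∈ OrdDiv.spor := by
  obtain ⟨x, hx, rfl⟩ := List.mem_map.1 hg
  rw [spor_ord x hx]
  exact hx

variable {p f e : ℕ}

/-- **The name.** -/
theorem exists_name5 (tb : OrderTable.{0}) (T : Tb 52 .F4 e) (he : e = 12 ∨ e = 8)
    (hp : p.Prime) (h5 : 5 ≤ p) (hf : 1 ≤ f) {F : Type} [Field F] [CharP F p] {S : Type} [Group S] [Finite S]
    [IsSimpleGroup S] (hna : ¬ IsMulCommutative S) (hK : IsKnownSimple' S) (hrep : Fth 52 F S)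
    (hcls : ncl e (p ^ f) ∣ Nat.card S) (hd : Nat.card S ∣ OL .F4 (p ^ f))
    (hcyc : ∀ r, Prim (p ^ f) e r → ∀ x : S, orderOf x = r → IsCyclic ↥(Subgroup.centralizer {x})) :
    ∃ g, IsNamed g S ∧ HasChar p g := by
  have hna' : ¬ ∀ a b : S, a * b = b * a := fun h => hna ⟨⟨h⟩⟩
  have hq : 2 ≤ p ^ f := hp.two_le.trans (Nat.le_self_pow (by omega) p)
  have hOL : num (.f4 (p ^ f)) = OL .F4 (p ^ f) := rfl
  obtain ⟨g, hgS⟩ := exists_named tb hK hna'
  rcases cases_name hgS.cond with ⟨m, rfl⟩ | hsp | ⟨l, hl, hch⟩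
  · exfalso
    obtain ⟨Φ⟩ : Nonempty (S ≃* alternatingGroup (Fin m)) := hgS.real
    have hm : 5 ≤ m := hgS.cond
    refine no_alt hp h5 hf he (by omega) Φ (ncl_le_alt hq T.he₀ (by omega) Φ hcls fun r hr x hx => ?_)
      (by rw [hOL]; exact hd)
    have := hcyc r hr x hx
    let _ := IsCyclic.commGroup (α := ↥(Subgroup.centralizer ({x} : Set S)))
    infer_instance
  · exfalso
    have h1 := spor_mem hsp
    have h2 : Nat.card S = ordN g := hgS.ord
    exact no_spor5 T h1 hp h5 hf (by rw [← h2]; exact hcls) (by rw [← h2]; exact hd)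
  · by_cases hpl : p = l
    · subst hpl
      exact ⟨g, hgS, hch⟩
    · exfalso
      obtain ⟨X, f₁, h1, h2, -⟩ := exists_lie hl hgS hch
      have hlF : (l : F) ≠ 0 := by
        intro h
        exact hpl ((Nat.prime_dvd_prime_iff_eq hp hl).1 ((CharP.cast_eq_zero_iff F p l).1 h))
      have h3 := lb_le hna' T.hn hrep h1 hgS.real h2 hlF
      exact no_cross5 T h2 h3 hp h5 hf hpl hcls hd

/-! ### The simple normal subgroup -/

theorem not_dvd_Ph (hp : p.Prime) (hf : 1 ≤ f) (he : e = 12 ∨ e = 8) : ¬ p ∣ Ph e (p ^ f) := by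
  intro h
  have hpq : p ∣ p ^ f := dvd_pow_self p (by omega)
  have hq : 2 ≤ p ^ f := hp.two_le.trans (Nat.le_self_pow (by omega) p)
  apply hp.one_lt.ne'
  apply Nat.dvd_one.1
  rcases he with rfl | rfl
  · rw [Ph12_eq (by omega)] at h
    exact (Nat.dvd_add_right ((hpq.trans (dvd_pow_self _ (by norm_num))).mul_right _)).1 h
  · have h1 : Ph 8 (p ^ f) = (p ^ f) ^ 4 + 1 := rfl
    rw [h1] at h
    exact (Nat.dvd_add_right (hpq.trans (dvd_pow_self _ (by norm_num)))).1 h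

theorem not_dvd_e (h5 : 5 ≤ p) (hp : p.Prime) (he : e = 12 ∨ e = 8) : ¬ p ∣ e := by
  intro h
  have h1 : p ∣ 2 ^ 3 * 3 := by
    rcases he with rfl | rfl <;> exact h.trans (by norm_num)
  rcases hp.dvd_mul.1 h1 with h2 | h2
  · have := Nat.le_of_dvd (by norm_num) (hp.dvd_of_dvd_pow h2)
    omega
  · have := Nat.le_of_dvd (by norm_num) h2
    omega

section Four

variable {F : Type} [Field F] [Fintype F]

theorem card_idx_four : Fintype.card Lie.chevF4.Idx = 52 := by decide +kernel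

omit [Fintype F] in
theorem fth_four : Fth 52 F ↥(Lie.chevF4.group F) := by
  have h := Fth.of (ρ := (Lie.chevF4.group F).subtype) (Lie.chevF4.group F).subtype_injective
  rwa [card_idx_four] at h

theorem named_four (tb : OrderTable.{0}) : IsNamed (.f4 (Fintype.card F)) ↥(Lie.chevF4.group F) := by
  refine .mk' ⟨F, inferInstance, inferInstance, rfl, ⟨MulEquiv.refl _⟩⟩ Fintype.isPrimePow_card_of_field ?_
  change 1 * _ = _ ^ 24 * _
  rw [tb.f4 F _ rfl]; ring

theorem big_four (hq : Fintype.card F = p ^ f) (hp : p.Prime) (he : e = 12 ∨ e = 8) {r : ℕ} (hr : Prim (p ^ f) e r) :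
    Big ↥(Lie.chevF4.group F) r (Ph e (p ^ f)) e := by
  have hq1 : 1 ≤ p ^ f := Nat.one_le_pow _ _ hp.pos
  rcases he with rfl | rfl
  · exact big_F4_12 hq (by rw [cast_Ph12 _ hq1]; ring) hr
  · exact big_F4_8 hq (by rw [cast_Ph8]; ring) hr

theorem card_four_dvd (tb : OrderTable.{0}) (hq : Fintype.card F = p ^ f) :
    Nat.card ↥(Lie.chevF4.group F) ∣ OL .F4 (p ^ f) := by
  have hT := named_four (F := F) tb
  rw [hq] at hT
  have hOL : num (.f4 (p ^ f)) = OL .F4 (p ^ f) := rfl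
  rw [← hOL, ← hT.eq]
  exact Dvd.intro_left _ rfl

variable (tb : OrderTable.{0}) (hcyc : CycFixSolv.{0})
  (hcf : ∀ (S : Type) [Group S] [Finite S] [IsSimpleGroup S], IsKnownSimple' S)

include tb hcyc hcf

/-- **The simple normal subgroup.** -/
theorem core_one (he : e = 12 ∨ e = 8) (hp : p.Prime) (h5 : 5 ≤ p) (hf : 1 ≤ f) [CharP F p]
    (hq : Fintype.card F = p ^ f) (hpiso : ∀ r, Prim (p ^ f) e r → PIso p r ↥(Lie.chevF4.group F))
    {U Bo : Subgroup ↥(Lie.chevF4.group F)} {u : ↥(Lie.chevF4.group F)} {n : ℕ} (R : RegD p U Bo u n)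
    {B : Subgroup ↥(Lie.chevF4.group F)} {x : ↥(Lie.chevF4.group F)} (hx : orderOf x = Ph e (p ^ f)) (hxB : x ∈ B)
    {w g : ↥(Lie.chevF4.group F)} (hw : w = g * u * g⁻¹) (hwB : w ∈ B) :
    ∃ (S : Subgroup B) (_ : S.Normal) (_ : IsSimpleGroup S), (⟨w, hwB⟩ : B) ∈ S ∧ ¬ p ∣ S.index ∧
      (∀ r, Prim (p ^ f) e r → r ∣ Nat.card S) ∧ ∃ g, IsNamed g S ∧ HasChar p g := by
  have := Fact.mk hp
  have hfin : Finite ↥(Lie.chevF4.group F) := inferInstance
  have hq2 : 2 ≤ p ^ f := hp.two_le.trans (Nat.le_self_pow (by omega) p)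
  have hcl : Cls e := by unfold Cls; omega
  have hPh := not_dvd_Ph (e := e) hp hf he
  have hPe := not_dvd_e h5 hp he
  have hn52 : 52 < ncl e (p ^ f) := by
    have h1 := ncl_ge h5 hf he
    have h2 : 5 * 25 ≤ p * (24 * f + 1) := Nat.mul_le_mul h5 (by omega)
    omega
  have hbigB : ∀ r, Prim (p ^ f) e r → Big ↥B r (Ph e (p ^ f)) e := fun r hr => (big_four hq hp he hr).subgroup B
  have hxo : orderOf (⟨x, hxB⟩ : B) = Ph e (p ^ f) := by rw [Subgroup.orderOf_mk, hx]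
  have hPB : Ph e (p ^ f) ∣ Nat.card B := by rw [← hxo]; exact orderOf_dvd_natCard _
  -- the `p`-element
  have hwp : IsPGroup p (Subgroup.zpowers w) := by
    have h1 : IsPGroup p (Subgroup.zpowers u) := R.pU.to_le (by rw [Subgroup.zpowers_le]; exact R.mem)
    have h2 : (Subgroup.zpowers u).map (MulAut.conj g).toMonoidHom = Subgroup.zpowers w := by
      rw [MonoidHom.map_zpowers, hw]; rfl
    rw [← h2]
    exact h1.map _
  have hU2 : ∀ a : ↥(Lie.chevF4.group F), ∀ m, ¬ p ∣ m → a ^ m = 1 → w * a = a * w → a = 1 := by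
    intro a m hm ha hwa
    have h1 : g⁻¹ * a * g ∈ U := by
      apply R.cent
      have h2 : g * u * g⁻¹ * a = a * (g * u * g⁻¹) := by rw [← hw]; exact hwa
      calc g⁻¹ * a * g * u = g⁻¹ * (a * (g * u * g⁻¹)) * g := by group
        _ = g⁻¹ * (g * u * g⁻¹ * a) * g := by rw [h2]
        _ = u * (g⁻¹ * a * g) := by group
    obtain ⟨k, hk⟩ := R.pU ⟨_, h1⟩
    have h2 : (g⁻¹ * a * g) ^ p ^ k = 1 := congrArg Subtype.val hk
    have h3 : (g⁻¹ * a * g) ^ m = 1 := by
      have h4 : (g⁻¹ * a * g) ^ m = g⁻¹ * a ^ m * g := by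
        have := conj_pow (i := m) (a := g⁻¹) (b := a)
        rwa [inv_inv] at this
      rw [h4, ha]; group
    have h5 : g⁻¹ * a * g = 1 := by
      rw [← orderOf_eq_one_iff]
      refine Nat.Coprime.eq_one_of_dvd (?_ : Nat.Coprime (orderOf (g⁻¹ * a * g)) m) (orderOf_dvd_of_pow_eq_one h3)
      exact Nat.Coprime.coprime_dvd_left (orderOf_dvd_of_pow_eq_one h2)
        (Nat.Coprime.pow_left _ ((Nat.Prime.coprime_iff_not_dvd hp).2 hm))
    have h6 : a = g * (g⁻¹ * a * g) * g⁻¹ := by group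
    rw [h6, h5]; group
  have hw1 : w ≠ 1 := by
    intro h1
    have h2 := hU2 x _ hPh (by rw [← hx]; exact pow_orderOf_eq_one x) (by rw [h1, one_mul, mul_one])
    rw [h2, orderOf_one] at hx
    have h3 := ncl_mul e (p ^ f)
    have h4 := Nat.le_of_dvd (Ph_pos e (by omega)) (ncl_dvd_Ph e (p ^ f))
    omega
  have hpB : p ∣ Nat.card B := by
    obtain ⟨k, hk⟩ := (IsPGroup.iff_orderOf.1 hwp) ⟨w, Subgroup.mem_zpowers w⟩
    rw [Subgroup.orderOf_mk] at hk
    have hk0 : k ≠ 0 := by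
      rintro rfl
      rw [pow_zero, orderOf_eq_one_iff] at hk
      exact hw1 hk
    have h1 : orderOf (⟨w, hwB⟩ : B) ∣ Nat.card B := orderOf_dvd_natCard _
    rw [Subgroup.orderOf_mk, hk] at h1
    exact (dvd_pow_self p hk0).trans h1
  -- the reduction
  obtain ⟨τ, hτ⟩ := (fth_four (F := F)).sub B.subtype B.subtype_injective
  obtain ⟨r₀, hr₀, hr₀n⟩ := exists_prim_ncl hcl hq2
  have hr₀B : r₀ ∣ Nat.card B := (hr₀n.trans (ncl_dvd_Ph e _)).trans hPB
  have hred : Red ↥B (Prim (p ^ f) e) := by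
    refine red_one hcyc hτ hcl hq2 ?_ (fun A hA hAp => pcore_of_piso ((hpiso r₀ hr₀).sub B) hr₀B A hA hAp) hbigB hxo
      (by rw [Fintype.card_fin]; exact hn52) (u := ⟨w, hwB⟩) ?_
    · intro t ht htc
      rcases he with rfl | rfl
      · exact absurd (Nat.dvd_one.1 htc) ht.one_lt.ne'
      · exact (Nat.prime_dvd_prime_iff_eq ht Nat.prime_two).1 htc
    · intro a ha hwa
      have h1 := hU2 (a : ↥(Lie.chevF4.group F)) 2 (by
        intro h
        have := Nat.le_of_dvd (by norm_num) h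
        omega) (by exact_mod_cast congrArg Subtype.val ha) (congrArg Subtype.val hwa)
      exact Subtype.ext h1
  let Fa : ℕ → ℕ → ℕ → Prop := fun r m e' => Prim (p ^ f) e r ∧ m = Ph e (p ^ f) ∧ e' = e
  have hPr : Pr Fa = Prim (p ^ f) e := by
    funext r
    apply propext
    constructor
    · rintro ⟨m, e', h, -, -⟩
      exact h
    · intro h
      exact ⟨_, _, h, rfl, rfl⟩
  have hrf : RFam ↥B Fa :=
    { big := by
        rintro r m e' ⟨h, rfl, rfl⟩
        exact hbigB r h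
      dvd := by
        rintro r m e' ⟨h, rfl, rfl⟩
        exact (dvd_Ph hcl (by omega) h).trans hPB
      sep := by
        rintro r m e' ⟨h, rfl, rfl⟩ hcon
        rcases hp.dvd_mul.1 (hpB.trans hcon) with h1 | h1
        · exact hPe h1
        · exact hPh h1 }
  obtain ⟨S, hSn, hSs, hSna, hS⟩ := hrf.exists_full hcyc (by rw [hPr]; exact hred) (r₁ := r₀) ⟨hr₀, rfl, rfl⟩
  have hall : ∀ r, Prim (p ^ f) e r →
      Big S r (Ph e (p ^ f)) e ∧ r ∣ Nat.card S ∧ ¬ r ∣ S.index ∧ S.index ∣ e * Ph e (p ^ f) :=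
    fun r h => hS r _ _ ⟨h, rfl, rfl⟩
  have hidx : ¬ p ∣ S.index := by
    intro h
    rcases hp.dvd_mul.1 (h.trans (hall r₀ hr₀).2.2.2) with h1 | h1
    · exact hPe h1
    · exact hPh h1
  have hSs' : IsSimpleGroup S := hSs
  refine ⟨S, hSn, hSs, ?_, hidx, fun r hr => (hall r hr).2.1, ?_⟩
  · obtain ⟨k, hk⟩ := hwp ⟨w, Subgroup.mem_zpowers w⟩
    have h0 : w ^ p ^ k = 1 := congrArg Subtype.val hk
    have h1 : (⟨w, hwB⟩ : B) ^ p ^ k = 1 := Subtype.ext h0
    have h2 : (⟨w, hwB⟩ : B) ^ S.index ∈ S := Subgroup.pow_index_mem S _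
    have hco : Nat.Coprime (p ^ k) S.index := Nat.Coprime.pow_left _ ((Nat.Prime.coprime_iff_not_dvd hp).2 hidx)
    have h3 : (⟨w, hwB⟩ : B) ^ ((p ^ k).gcd S.index : ℤ) ∈ S := by
      rw [Nat.gcd_eq_gcd_ab, zpow_add, zpow_mul, zpow_mul, zpow_natCast, zpow_natCast, h1, one_zpow, one_mul]
      exact zpow_mem h2 _
    rw [hco] at h3
    simpa using h3
  · have hnS : ncl e (p ^ f) ∣ Nat.card S := by
      have h1 : ncl e (p ^ f) ∣ Nat.card B := (ncl_dvd_Ph e _).trans hPB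
      rw [← S.index_mul_card] at h1
      refine Nat.Coprime.dvd_of_dvd_mul_left ?_ h1
      by_contra hcon
      obtain ⟨r, hr, h3, h4⟩ := Nat.Prime.not_coprime_iff_dvd.1 hcon
      exact (hall r (prim_of_dvd hcl (by omega) hr h3)).2.2.1 h4
    have hdS : Nat.card S ∣ OL .F4 (p ^ f) :=
      ((Subgroup.card_subgroup_dvd_card S).trans (Subgroup.card_subgroup_dvd_card B)).trans (card_four_dvd tb hq)
    have hT : Tb 52 .F4 e := by
      rcases he with rfl | rfl
      · exact tb_12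
      · exact tb_8
    exact exists_name5 tb hT he hp h5 hf (F := F) hSna (hcf S)
      (((fth_four (F := F)).sub B.subtype B.subtype_injective).sub S.subtype S.subtype_injective) hnS hdS
      fun r hr x hx => (hall r hr).1.cyc x hx

end Four

end Cfsg.Agent.H406.Cov
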