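import Cfsg.Agent.H406.Cov.One
import Cfsg.Agent.H406.Cov.Frat

/-!
# Subgroups of `F₄(q)`, `p ≥ 5`, containing one cyclic torus and a regular unipotent element: the whole group
(helper406)

* `NB p S N` : `N |P| ≤ 2 |N(P)|` for a Sylow `p`-subgroup `P`;
* `top_of_one` : the subgroup is the whole group, given the bounds `NB` for `PSp₈(q)` and `Ω₉(q)`.
-/

set_option autoImplicit false

namespace Cfsg.Agent.H406.Cov

open Cfsg Cfsg.Agent.OrdDiv Cfsg.Agent.H436 Cfsg.Agent.H902 Cfsg.Agent.H902.Names Cfsg.Agent.H915.GN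
  Cfsg.Agent.H290.ElReg Cfsg.Agent.H264.GN Cfsg.Agent.H264.FKS Cfsg.Agent.H56.Exc Cfsg.Agent.H325.Loc
open Cfsg.Agent.H563.KG hiding mod_of_prim
open Cfsg.Agent.ChevalleyStructure.Elts Cfsg.Agent.ChevalleyStructure.RootVec
  Cfsg.Agent.ChevalleyStructure.RootVecTab Cfsg.Agent.H610.ChevRegular Cfsg.Agent.H610.OddRegLie Cfsg.Lie

/-- the Sylow normalizer is large -/
def NB (p : ℕ) (S : Type*) [Group S] (N : ℕ) : Prop :=
  ∃ P : Sylow p S, N * Nat.card ↥(P : Subgroup S) ≤ 2 * Nat.card ↥(Subgroup.normalizer (P : Set S))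

theorem card_normalizer_eq {p : ℕ} [Fact p.Prime] {S : Type*} [Group S] [Finite S] (P Q : Sylow p S) :
    Nat.card ↥(Subgroup.normalizer (P : Set S)) = Nat.card ↥(Subgroup.normalizer (Q : Set S)) := by
  have h1 := Sylow.card_eq_index_normalizer P
  have h2 := Sylow.card_eq_index_normalizer Q
  have h3 := (Subgroup.normalizer (P : Set S)).index_mul_card
  have h4 := (Subgroup.normalizer (Q : Set S)).index_mul_card
  rw [← h1] at h3
  rw [← h2, ← h3] at h4
  exact (Nat.eq_of_mul_eq_mul_left Nat.card_pos h4).symm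

theorem card_sylow_eq {p : ℕ} [Fact p.Prime] {S : Type*} [Group S] [Finite S] (P Q : Sylow p S) :
    Nat.card ↥(P : Subgroup S) = Nat.card ↥(Q : Subgroup S) := by
  rw [P.card_eq_multiplicity, Q.card_eq_multiplicity]

theorem NB.index {p : ℕ} [Fact p.Prime] {S : Type*} [Group S] [Finite S] {N : ℕ} (h : NB p S N) (P : Sylow p S) :
    N ≤ 2 * ((P : Subgroup S).subgroupOf (Subgroup.normalizer (P : Set S))).index := by
  obtain ⟨Q, hQ⟩ := h
  rw [card_sylow_eq Q P, card_normalizer_eq Q P] at hQ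
  have h1 := ((P : Subgroup S).subgroupOf (Subgroup.normalizer (P : Set S))).index_mul_card
  have h2 : Nat.card ↥((P : Subgroup S).subgroupOf (Subgroup.normalizer (P : Set S))) = Nat.card ↥(P : Subgroup S) :=
    Nat.card_congr (Subgroup.subgroupOfEquivOfLe (Subgroup.le_normalizer (H := (P : Subgroup S)))).toEquiv
  rw [h2] at h1
  rw [← h1, ← mul_assoc] at hQ
  exact Nat.le_of_mul_le_mul_right hQ Nat.card_pos

theorem NB.of_equiv {p : ℕ} [Fact p.Prime] {S S' : Type*} [Group S] [Finite S] [Group S'] [Finite S'] {N : ℕ}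
    (h : NB p S N) (e : S ≃* S') : NB p S' N := by
  obtain ⟨P, hP⟩ := h
  have hes : Function.Surjective e.toMonoidHom := e.surjective
  refine ⟨P.mapSurjective hes, ?_⟩
  have h1 : Nat.card ↥(P.mapSurjective hes : Subgroup S') = Nat.card ↥(P : Subgroup S) := by
    rw [Sylow.coe_mapSurjective]
    exact Nat.card_congr ((P : Subgroup S).equivMapOfInjective e.toMonoidHom e.injective).symm.toEquiv
  have h2 := Sylow.card_eq_index_normalizer P
  have h3 := Sylow.card_eq_index_normalizer (P.mapSurjective hes)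
  have h4 : Nat.card (Sylow p S) = Nat.card (Sylow p S') := by
    have h5 : (Subgroup.normalizer (P : Set S)).map e.toMonoidHom =
        Subgroup.normalizer ((P.mapSurjective hes : Sylow p S') : Set S') := by
      have h6 : ((P.mapSurjective hes : Sylow p S') : Set S') = (((P : Subgroup S).map e.toMonoidHom : Subgroup S') : Set S') := by
        exact congrArg (fun H : Subgroup S' => (H : Set S')) (Sylow.coe_mapSurjective hes P)
      rw [h6]
      exact (Subgroup.map_equiv_normalizer_eq (P : Subgroup S) e)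
    rw [h2, h3, ← h5]
    exact (Subgroup.index_map_equiv _ e).symm
  have h5 := (Subgroup.normalizer (P : Set S)).index_mul_card
  have h6 := (Subgroup.normalizer ((P.mapSurjective hes : Sylow p S') : Set S')).index_mul_card
  rw [← h2] at h5
  rw [← h3, ← h4, ← Nat.card_congr e.toEquiv, ← h5] at h6
  rw [h1, Nat.eq_of_mul_eq_mul_left Nat.card_pos h6]
  exact hP

variable {p f e : ℕ}

theorem not_dvd_prB (hp : p.Prime) {q : ℕ} (hq : 1 ≤ q) (hpq : p ∣ q) (m : ℕ) : ¬ p ∣ prB q m := by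
  intro h
  unfold prB at h
  rw [Prime.dvd_prod_iff hp.prime] at h
  obtain ⟨y, hy, hd⟩ := h
  rw [List.mem_map] at hy
  obtain ⟨i, -, rfl⟩ := hy
  have h1 : p ∣ q ^ (2 * (i + 1)) := hpq.trans (dvd_pow_self q (by omega))
  have h2 : 1 ≤ q ^ (2 * (i + 1)) := Nat.one_le_pow _ _ hq
  have h3 := Nat.dvd_sub h1 hd
  rw [Nat.sub_sub_self h2] at h3
  exact hp.one_lt.ne' (Nat.dvd_one.1 h3)

/-- the `p`-part of the order of `PSp₈(q)`, `Ω₉(q)` -/
theorem no_p_part (hp : p.Prime) (hf : 1 ≤ f) {D c : ℕ} (h : D * c = (p ^ f) ^ (4 ^ 2) * prB (p ^ f) 4)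
    (hd : (p ^ f) ^ 24 ∣ c) : False := by
  have h1 : (p ^ f) ^ 24 ∣ (p ^ f) ^ (4 ^ 2) * prB (p ^ f) 4 := h ▸ hd.mul_left D
  have hq : 2 ≤ p ^ f := hp.two_le.trans (Nat.le_self_pow (by omega) p)
  have h2 : (p ^ f) ^ 24 = (p ^ f) ^ (4 ^ 2) * (p ^ f) ^ 8 := (pow_add (p ^ f) (4 ^ 2) 8)
  rw [h2] at h1
  have h3 := Nat.dvd_of_mul_dvd_mul_left (by positivity) h1
  have h4 : p ∣ p ^ f := dvd_pow_self p (by omega)
  exact not_dvd_prB hp (by omega) h4 4 ((h4.trans (dvd_pow_self _ (by norm_num))).trans h3)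

/-- primes of class 5 -/
theorem no_oplus5 (hp : p.Prime) (hf : 1 ≤ f) {c : ℕ} (h : den (.oplus 5 (p ^ f)) * c = num (.oplus 5 (p ^ f)))
    (hd : c ∣ num (.f4 (p ^ f))) : False := by
  have hq : 2 ≤ p ^ f := hp.two_le.trans (Nat.le_self_pow (by omega) _)
  obtain ⟨s, hs⟩ := exists_prim (q := p ^ f) (e := 5) hq (by norm_num) (by omega)
  have h5 := lt_of_prim hs
  have h1 : s ∣ den (.oplus 5 (p ^ f)) * c := by
    rw [h]
    show s ∣ (p ^ f) ^ (5 * (5 - 1)) * (((p ^ f) ^ 5 - 1) * prB (p ^ f) (5 - 1))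
    exact ((hs.dvd dvd_rfl).mul_right _).mul_left _
  rcases hs.prime.dvd_mul.1 h1 with h2 | h2
  · have h3 : s ∣ Nat.gcd 4 ((p ^ f) ^ 5 - 1) := h2
    have := Nat.le_of_dvd (by norm_num) (h3.trans (Nat.gcd_dvd_left _ _))
    omega
  · have h3 : s ∣ (p ^ f) ^ 24 * (((p ^ f) ^ 2 - 1) * ((p ^ f) ^ 6 - 1) * ((p ^ f) ^ 8 - 1) * ((p ^ f) ^ 12 - 1)) :=
      h2.trans hd
    rcases hs.prime.dvd_mul.1 h3 with h3 | h3
    · exact hs.not_dvd_pow _ h3
    rcases hs.prime.dvd_mul.1 h3 with h3 | h3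
    · rcases hs.prime.dvd_mul.1 h3 with h3 | h3
      · rcases hs.prime.dvd_mul.1 h3 with h3 | h3
        · exact hs.not_dvd_sub (by norm_num) h3
        · exact hs.not_dvd_sub (by norm_num) h3
      · exact hs.not_dvd_sub (by norm_num) h3
    · exact hs.not_dvd_sub (by norm_num) h3

/-- the numerical inequality -/
theorem bd_four (h5 : 5 ≤ p) (hf : 1 ≤ f) {i : ℕ} (h : (p ^ f - 1) ^ 4 ≤ 2 * i) : (p ^ f) ^ 4 < p * (i + 1) := by
  have hq : p ≤ p ^ f := Nat.le_self_pow (by omega) p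
  have hpq : 5 ≤ p ^ f := h5.trans hq
  obtain ⟨a, ha⟩ : ∃ a, p ^ f = a + 1 := ⟨p ^ f - 1, by omega⟩
  rw [ha, Nat.add_sub_cancel] at h
  rw [ha] at hpq hq ⊢
  have ha4 : 4 ≤ a := by omega
  by_cases h6 : a = 4
  · subst h6
    have hp5 : p = 5 := by omega
    subst hp5
    norm_num at h ⊢
    omega
  · have ha6 : 5 ≤ a := by omega
    -- `2 (a + 1) ^ 4 < 5 (a ^ 4 + 2)`
    have h7 : 2 * (a + 1) ^ 4 < 5 * (a ^ 4 + 2) := by
      obtain ⟨b, rfl⟩ : ∃ b, a = b + 5 := ⟨a - 5, by omega⟩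
      nlinarith [sq_nonneg b, pow_pos (show 0 < b + 1 by omega) 3, pow_pos (show 0 < b + 1 by omega) 4]
    have h8 : 5 * (a ^ 4 + 2) ≤ p * (2 * i + 2) := Nat.mul_le_mul h5 (by omega)
    nlinarith

section Four

variable {F : Type} [Field F] [Fintype F] (tb : OrderTable.{0}) (hcyc : CycFixSolv.{0})
  (hcf : ∀ (S : Type) [Group S] [Finite S] [IsSimpleGroup S], IsKnownSimple' S)
  (hnb1 : ∀ (K : Type) [Field K] [Fintype K] [CharP K p], NB p (PSp 4 K) ((Fintype.card K - 1) ^ 4))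
  (hnb2 : ∀ (K : Type) [Field K] [Fintype K] [CharP K p], NB p (POmega K (quadFormOdd 4 K)) ((Fintype.card K - 1) ^ 4))

include tb hcyc hcf hnb1 hnb2

/-- **One cyclic torus and a regular unipotent element generate `F₄(q)`.** -/
theorem top_of_one (he : e = 12 ∨ e = 8) (hp : p.Prime) (h5 : 5 ≤ p) (hf : 1 ≤ f) [CharP F p]
    (hq : Fintype.card F = p ^ f) (hpiso : ∀ r, Prim (p ^ f) e r → PIso p r ↥(Lie.chevF4.group F))
    {hD : InList Lie.chevF4} {u₀ : Matrix.GeneralLinearGroup Lie.chevF4.Idx F} (hu : Reg hD u₀)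
    {B : Subgroup ↥(Lie.chevF4.group F)} {x : ↥(Lie.chevF4.group F)} (hx : orderOf x = Ph e (p ^ f)) (hxB : x ∈ B)
    {w g : ↥(Lie.chevF4.group F)} (hw : w = g * ⟨u₀, posUnipotent_le_group hD F hu.1⟩ * g⁻¹) (hwB : w ∈ B) :
    B = ⊤ := by
  have := Fact.mk hp
  have hfin : Finite ↥(Lie.chevF4.group F) := inferInstance
  have R := regD_of_reg (p := p) hD hu
  rw [hq] at R
  obtain ⟨S, hSn, hSs, hwS, hidx, hprim, gr, hg, hch⟩ := core_one tb hcyc hcf he hp h5 hf hq hpiso R hx hxB hw hwB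
  have hT := named_four (F := F) tb
  rw [hq] at hT
  have hdT : Nat.card ↥(Lie.chevF4.group F) = num (.f4 (p ^ f)) := by
    have := hT.eq
    rwa [show den (.f4 (p ^ f)) = 1 from rfl, one_mul] at this
  have hdS : Nat.card S ∣ num (.f4 (p ^ f)) := by
    rw [← hdT]
    exact (Subgroup.card_subgroup_dvd_card S).trans (Subgroup.card_subgroup_dvd_card B)
  -- the embedding
  let φ : S →* ↥(Lie.chevF4.group F) := B.subtype.comp S.subtype
  have hφ : Function.Injective φ := B.subtype_injective.comp S.subtype_injective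
  have hφw : φ ⟨⟨w, hwB⟩, hwS⟩ = g * ⟨u₀, posUnipotent_le_group hD F hu.1⟩ * g⁻¹ := hw
  -- the elimination
  obtain ⟨f₁, hf₁, hfl, hK, hY⟩ := kd_all hp hg.cond hch hg.eq
  have hHT : Cfsg.Agent.H325.Same.HT p f e gr (Nat.card S) := fun s hs _ => hprim s hs
  obtain ⟨i, hi, hei, hfM, h2, h1, h3, hYc⟩ := Cfsg.Agent.H325.Same.compP hp hf hg.cond hch hf₁ hfl hK hY
    (Cfsg.Agent.H325.Same.td_f4 hp hf hdS) (e1 := e) (e2 := e) (by omega) (by omega) (by omega)
    (fun i hi hei s hs h5 => by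
      have hi' : i ∈ [2, 6, 8, 12] := hi
      intro hsi
      have h1 : s ∣ 2 ^ 3 * 3 := by
        simp only [List.mem_cons, List.not_mem_nil, or_false] at hi'
        rcases hi' with rfl | rfl | rfl | rfl <;> exact hsi.trans (by norm_num)
      rcases hs.dvd_mul.1 h1 with h2 | h2
      · have := Nat.le_of_dvd (by norm_num) (hs.dvd_of_dvd_pow h2)
        omega
      · have := Nat.le_of_dvd (by norm_num) h2
        omega) hHT hHT
  have hNF := nf_of (f := f) hp h5 hg hfl hf₁ (fun a ha hN => R.dvd_of_nd h5 hφ hφw ha hN)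
  -- large Sylow normalizers
  have hbig : NB p S ((p ^ f - 1) ^ 4) → (p ^ f) ^ 24 ∣ Nat.card S := by
    intro hNB
    obtain ⟨ψ, P, hψ, hψw, hwP, hPU, hPN⟩ := R.exists_emb hφ hφw
    have h6 := card_eq_of_big hD hψ hwP (fun x hx => Subgroup.mem_subgroupOf.1 (hPU x hx))
      (fun t ht => Subgroup.mem_subgroupOf.1 (hPN t ht)) (by rw [hψw]; exact hu) chk_F4 h5 (by
        rw [hq]
        exact bd_four h5 hf (hNB.index P))
    rw [Cfsg.Agent.S1027.result Lie.chevF4 (by simp), hq] at h6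
    have h7 : (p ^ f) ^ 24 = Nat.card P := by rw [h6]; rfl
    rw [h7]
    exact Subgroup.card_subgroup_dvd_card (P : Subgroup S)
  rcases elim_one hp h5 hg.cond hch hi (by omega) hf₁ hf hfl hfM h2 hYc hNF with rfl | ⟨-, rfl | rfl | rfl⟩
  · have h6 : Nat.card S = Nat.card ↥(Lie.chevF4.group F) := by
      have h7 := hg.eq
      rw [show den (.f4 (p ^ f)) = 1 from rfl, one_mul] at h7
      rw [h7, hdT]
    apply Subgroup.eq_top_of_card_eq
    apply le_antisymm (Subgroup.card_le_card_group B)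
    rw [← h6]
    exact Subgroup.card_le_card_group S
  · exfalso
    obtain ⟨K, _, _, hK, ⟨Φ⟩⟩ := hg.real
    have := charP_of hp hK
    have hfK : Finite (PSp 4 K) := Finite.of_equiv S Φ.toEquiv
    have h6 := (hnb1 K).of_equiv Φ.symm
    rw [hK] at h6
    exact no_p_part hp hf hg.eq (hbig h6)
  · exfalso
    obtain ⟨K, _, _, hK, ⟨Φ⟩⟩ := hg.real
    have := charP_of hp hK
    have hfK : Finite (POmega K (quadFormOdd 4 K)) := Finite.of_equiv S Φ.toEquiv
    have h6 := (hnb2 K).of_equiv Φ.symm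
    rw [hK] at h6
    exact no_p_part hp hf hg.eq (hbig h6)
  · exact (no_oplus5 hp hf hg.eq hdS).elim

end Four

end Cfsg.Agent.H406.Cov
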